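import Cfsg.Agent.R2.PX.C.Vec

/-!
# Pattern X, Part C: the evaluation of `DD` (helper3)

* `chkQ A B Q` : `dd` of the packed vectors `A`, `B` is the packed vector `Q`;
* `chkD Q C E` : `Q` maps `C` to `E`;
* `DD_eval`.
-/

set_option autoImplicit false
set_option maxRecDepth 100000

namespace Cfsg.Agent.R2.PX.C

open Cfsg Cfsg.Lie Matrix
open Cfsg.Agent.R2.T1 Cfsg.Agent.R2.PX
open Cfsg.Agent.ChevalleyStructure.Elts Cfsg.Agent.ChevalleyStructure.RootVec
  Cfsg.Agent.ChevalleyStructure.RootVecTab
open Cfsg.Agent.H943.E7V.Block (D1 rho)

universe u
variable {F : Type u} [Field F]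

/-- the rows of the root vectors: for `r` the list of `(u, k)`, `k` the code of `-r` at `u` -/
def RWT : List (List (ℕ × ℕ)) := [
   [(120, 455), (122, 456), (125, 459), (129, 460), (134, 463), (140, 464), (146, 466), (151, 468), (155, 470),
   (158, 472), (160, 474), (161, 476)],
   [(120, 441), (122, 442), (125, 445), (129, 446), (134, 449), (146, 450), (168, 464), (173, 468), (177, 470),
   (180, 472), (182, 474), (183, 476)],
   [(120, 431), (122, 432), (125, 435), (129, 436), (140, 449), (151, 451), (168, 462), (173, 466), (187, 471),
   (190, 473), (192, 475), (193, 477)],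
   [(120, 423), (122, 424), (125, 427), (134, 436), (140, 447), (155, 450), (168, 460), (177, 467), (187, 469),
   (196, 472), (198, 474), (199, 476)],
   [(120, 417), (122, 418), (129, 427), (134, 434), (140, 445), (158, 451), (168, 458), (180, 466), (190, 468),
   (196, 470), (201, 475), (202, 477)],
   [(120, 413), (125, 418), (129, 425), (134, 432), (140, 443), (160, 450), (168, 456), (182, 467), (192, 469),
   (198, 471), (201, 473), (203, 476)],
   [(122, 413), (125, 416), (129, 423), (134, 430), (140, 441), (161, 451), (168, 454), (183, 466), (193, 468),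
   (199, 470), (202, 472), (203, 474)],
   [(120, 403), (122, 404), (125, 407), (146, 436), (151, 446), (155, 448), (173, 461), (177, 463), (187, 465),
   (206, 473), (208, 475), (209, 477)],
   [(120, 397), (122, 398), (129, 407), (146, 434), (151, 444), (158, 449), (173, 459), (180, 462), (190, 464),
   (206, 471), (211, 474), (212, 476)],
   [(120, 393), (125, 398), (129, 405), (146, 432), (151, 442), (160, 448), (173, 457), (182, 463), (192, 465),
   (208, 470), (211, 472), (213, 477)],
   [(122, 393), (125, 396), (129, 403), (146, 430), (151, 440), (161, 449), (173, 455), (183, 462), (193, 464),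
   (209, 471), (212, 473), (213, 475)],
   [(120, 385), (122, 386), (134, 407), (146, 426), (155, 445), (158, 447), (177, 458), (180, 460), (196, 465),
   (206, 469), (215, 475), (216, 477)],
   [(120, 381), (125, 386), (134, 405), (146, 424), (155, 443), (160, 446), (177, 456), (182, 461), (198, 464),
   (208, 468), (215, 473), (217, 476)],
   [(122, 381), (125, 384), (134, 403), (146, 422), (155, 441), (161, 447), (177, 454), (183, 460), (199, 465),
   (209, 469), (216, 472), (217, 474)],
   [(120, 375), (129, 386), (134, 399), (146, 418), (158, 442), (160, 444), (180, 457), (182, 459), (201, 465),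
   (211, 469), (215, 471), (218, 477)],
   [(122, 375), (129, 384), (134, 397), (146, 416), (158, 440), (161, 445), (180, 455), (183, 458), (202, 464),
   (212, 468), (216, 470), (218, 475)],
   [(125, 375), (129, 380), (134, 393), (146, 412), (160, 441), (161, 443), (182, 454), (183, 456), (203, 465),
   (213, 469), (217, 471), (218, 473)],
   [(120, 365), (122, 366), (140, 407), (151, 427), (155, 435), (158, 437), (187, 459), (190, 461), (196, 463),
   (206, 467), (220, 474), (221, 476)],
   [(120, 361), (125, 366), (140, 405), (151, 425), (155, 433), (160, 436), (187, 457), (192, 460), (198, 462),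
   (208, 466), (220, 472), (222, 477)],
   [(122, 361), (125, 364), (140, 403), (151, 423), (155, 431), (161, 437), (187, 455), (193, 461), (199, 463),
   (209, 467), (221, 473), (222, 475)],
   [(120, 355), (129, 366), (140, 399), (151, 419), (158, 432), (160, 434), (190, 456), (192, 458), (201, 463),
   (211, 467), (220, 470), (223, 476)],
   [(122, 355), (129, 364), (140, 397), (151, 417), (158, 430), (161, 435), (190, 454), (193, 459), (202, 462),
   (212, 466), (221, 471), (223, 474)],
   [(125, 355), (129, 360), (140, 393), (151, 413), (160, 431), (161, 433), (192, 455), (193, 457), (203, 463),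
   (213, 467), (222, 470), (223, 472)],
   [(120, 347), (134, 366), (140, 387), (155, 418), (158, 424), (160, 426), (196, 457), (198, 459), (201, 461),
   (215, 466), (220, 468), (224, 477)],
   [(122, 347), (134, 364), (140, 385), (155, 416), (158, 422), (161, 427), (196, 455), (199, 458), (202, 460),
   (216, 467), (221, 469), (224, 475)],
   [(125, 347), (134, 360), (140, 381), (155, 412), (160, 423), (161, 425), (198, 454), (199, 456), (203, 461),
   (217, 466), (222, 468), (224, 473)],
   [(129, 347), (134, 354), (140, 375), (158, 413), (160, 417), (161, 419), (201, 455), (202, 457), (203, 459),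
   (218, 467), (223, 469), (224, 471)],
   [(120, 337), (146, 366), (151, 386), (155, 398), (158, 404), (160, 406), (206, 456), (208, 458), (211, 460),
   (215, 462), (220, 464), (225, 476)],
   [(122, 337), (146, 364), (151, 384), (155, 396), (158, 402), (161, 407), (206, 454), (209, 459), (212, 461),
   (216, 463), (221, 465), (225, 474)],
   [(125, 337), (146, 360), (151, 380), (155, 392), (160, 403), (161, 405), (208, 455), (209, 457), (213, 460),
   (217, 462), (222, 464), (225, 472)],
   [(129, 337), (146, 354), (151, 374), (158, 393), (160, 397), (161, 399), (211, 454), (212, 456), (213, 458),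
   (218, 463), (223, 465), (225, 470)],
   [(134, 337), (146, 346), (155, 375), (158, 381), (160, 385), (161, 387), (215, 455), (216, 457), (217, 459),
   (218, 461), (224, 464), (225, 468)],
   [(140, 337), (151, 347), (155, 355), (158, 361), (160, 365), (161, 367), (220, 454), (221, 456), (222, 458),
   (223, 460), (224, 462), (225, 466)],
   [(120, 321), (122, 322), (168, 406), (173, 426), (177, 434), (180, 436), (187, 444), (190, 446), (196, 448),
   (206, 450), (227, 474), (228, 476)],
   [(120, 317), (125, 322), (168, 404), (173, 424), (177, 432), (182, 437), (187, 442), (192, 447), (198, 449),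
   (208, 451), (227, 472), (229, 477)],
   [(122, 317), (125, 320), (168, 402), (173, 422), (177, 430), (183, 436), (187, 440), (193, 446), (199, 448),
   (209, 450), (228, 473), (229, 475)],
   [(120, 311), (129, 322), (168, 398), (173, 418), (180, 433), (182, 435), (190, 443), (192, 445), (201, 448),
   (211, 450), (227, 470), (230, 476)],
   [(122, 311), (129, 320), (168, 396), (173, 416), (180, 431), (183, 434), (190, 441), (193, 444), (202, 449),
   (212, 451), (228, 471), (230, 474)],
   [(125, 311), (129, 316), (168, 392), (173, 412), (182, 430), (183, 432), (192, 440), (193, 442), (203, 448),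
   (213, 450), (229, 470), (230, 472)],
   [(120, 303), (134, 322), (168, 386), (177, 419), (180, 425), (182, 427), (196, 442), (198, 444), (201, 446),
   (215, 451), (227, 468), (231, 477)],
   [(122, 303), (134, 320), (168, 384), (177, 417), (180, 423), (183, 426), (196, 440), (199, 445), (202, 447),
   (216, 450), (228, 469), (231, 475)],
   [(125, 303), (134, 316), (168, 380), (177, 413), (182, 422), (183, 424), (198, 441), (199, 443), (203, 446),
   (217, 451), (229, 468), (231, 473)],
   [(129, 303), (134, 310), (168, 374), (180, 412), (182, 416), (183, 418), (201, 440), (202, 442), (203, 444),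
   (218, 450), (230, 469), (231, 471)],
   [(120, 293), (140, 322), (168, 366), (187, 418), (190, 424), (192, 426), (196, 432), (198, 434), (201, 436),
   (220, 450), (227, 466), (232, 476)],
   [(122, 293), (140, 320), (168, 364), (187, 416), (190, 422), (193, 427), (196, 430), (199, 435), (202, 437),
   (221, 451), (228, 467), (232, 474)],
   [(125, 293), (140, 316), (168, 360), (187, 412), (192, 423), (193, 425), (198, 431), (199, 433), (203, 436),
   (222, 450), (229, 466), (232, 472)],
   [(129, 293), (140, 310), (168, 354), (190, 413), (192, 417), (193, 419), (201, 430), (202, 432), (203, 434),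
   (223, 451), (230, 467), (232, 470)],
   [(134, 293), (140, 302), (168, 346), (196, 412), (198, 416), (199, 418), (201, 422), (202, 424), (203, 426),
   (224, 450), (231, 466), (232, 468)],
   [(120, 281), (146, 322), (173, 387), (177, 399), (180, 405), (182, 407), (206, 443), (208, 445), (211, 447),
   (215, 449), (227, 464), (233, 476)],
   [(122, 281), (146, 320), (173, 385), (177, 397), (180, 403), (183, 406), (206, 441), (209, 444), (212, 446),
   (216, 448), (228, 465), (233, 474)],
   [(125, 281), (146, 316), (173, 381), (177, 393), (182, 402), (183, 404), (208, 440), (209, 442), (213, 447),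
   (217, 449), (229, 464), (233, 472)],
   [(129, 281), (146, 310), (173, 375), (180, 392), (182, 396), (183, 398), (211, 441), (212, 443), (213, 445),
   (218, 448), (230, 465), (233, 470)],
   [(134, 281), (146, 302), (177, 374), (180, 380), (182, 384), (183, 386), (215, 440), (216, 442), (217, 444),
   (218, 446), (231, 464), (233, 468)],
   [(120, 269), (151, 322), (173, 366), (187, 399), (190, 405), (192, 407), (206, 432), (208, 434), (211, 436),
   (220, 449), (227, 463), (234, 476)],
   [(122, 269), (151, 320), (173, 364), (187, 397), (190, 403), (193, 406), (206, 430), (209, 435), (212, 437),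
   (221, 448), (228, 462), (234, 474)],
   [(125, 269), (151, 316), (173, 360), (187, 393), (192, 402), (193, 404), (208, 431), (209, 433), (213, 436),
   (222, 449), (229, 463), (234, 472)],
   [(129, 269), (151, 310), (173, 354), (190, 392), (192, 396), (193, 398), (211, 430), (212, 432), (213, 434),
   (223, 448), (230, 462), (234, 470)],
   [(120, 259), (155, 322), (177, 366), (187, 386), (196, 405), (198, 407), (206, 425), (208, 427), (215, 436),
   (220, 446), (227, 460), (235, 476)],
   [(122, 259), (155, 320), (177, 364), (187, 384), (196, 403), (199, 406), (206, 423), (209, 426), (216, 437),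
   (221, 447), (228, 461), (235, 474)],
   [(125, 259), (155, 316), (177, 360), (187, 380), (198, 402), (199, 404), (208, 422), (209, 424), (217, 436),
   (222, 446), (229, 460), (235, 472)],
   [(120, 251), (158, 322), (180, 366), (190, 386), (196, 398), (201, 407), (206, 418), (211, 427), (215, 435),
   (220, 445), (227, 459), (236, 476)],
   [(122, 251), (158, 320), (180, 364), (190, 384), (196, 396), (202, 406), (206, 416), (212, 426), (216, 434),
   (221, 444), (228, 458), (236, 474)],
   [(120, 245), (160, 322), (182, 366), (192, 386), (198, 398), (201, 404), (208, 418), (211, 424), (215, 432),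
   (220, 442), (227, 456), (237, 476)],
   [(122, 241), (161, 320), (183, 364), (193, 384), (199, 396), (202, 402), (209, 416), (212, 422), (216, 430),
   (221, 440), (228, 454), (238, 474)],
   [(125, 245), (160, 316), (182, 360), (192, 380), (198, 392), (203, 404), (208, 412), (213, 424), (217, 432),
   (222, 442), (229, 456), (237, 472)],
   [(125, 241), (161, 316), (183, 360), (193, 380), (199, 392), (203, 403), (209, 412), (213, 423), (217, 431),
   (222, 441), (229, 455), (238, 472)],
   [(129, 251), (158, 310), (180, 354), (190, 374), (201, 396), (202, 398), (211, 416), (212, 418), (218, 434),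
   (223, 444), (230, 458), (236, 470)],
   [(129, 245), (160, 310), (182, 354), (192, 374), (201, 393), (203, 398), (211, 413), (213, 418), (218, 433),
   (223, 443), (230, 457), (237, 470)],
   [(129, 241), (161, 310), (183, 354), (193, 374), (202, 393), (203, 397), (212, 413), (213, 417), (218, 430),
   (223, 440), (230, 454), (238, 470)],
   [(134, 259), (155, 302), (177, 346), (196, 380), (198, 384), (199, 386), (215, 422), (216, 424), (217, 426),
   (224, 446), (231, 460), (235, 468)],
   [(134, 251), (158, 302), (180, 346), (196, 375), (201, 384), (202, 386), (215, 417), (216, 419), (218, 426),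
   (224, 445), (231, 459), (236, 468)],
   [(134, 245), (160, 302), (182, 346), (198, 375), (201, 381), (203, 386), (215, 412), (217, 419), (218, 425),
   (224, 442), (231, 456), (237, 468)],
   [(134, 241), (161, 302), (183, 346), (199, 375), (202, 381), (203, 385), (216, 412), (217, 416), (218, 422),
   (224, 441), (231, 455), (238, 468)],
   [(140, 269), (151, 292), (187, 354), (190, 360), (192, 364), (193, 366), (220, 430), (221, 432), (222, 434),
   (223, 436), (232, 462), (234, 466)],
   [(140, 259), (155, 292), (187, 347), (196, 360), (198, 364), (199, 366), (220, 423), (221, 425), (222, 427),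
   (224, 436), (232, 461), (235, 466)],
   [(140, 251), (158, 292), (190, 347), (196, 355), (201, 364), (202, 366), (220, 416), (221, 418), (223, 427),
   (224, 435), (232, 458), (236, 466)],
   [(140, 245), (160, 292), (192, 347), (198, 355), (201, 361), (203, 366), (220, 413), (222, 418), (223, 424),
   (224, 432), (232, 457), (237, 466)],
   [(140, 241), (161, 292), (193, 347), (199, 355), (202, 361), (203, 365), (221, 413), (222, 417), (223, 423),
   (224, 431), (232, 454), (238, 466)],
   [(146, 269), (151, 280), (173, 336), (206, 392), (208, 396), (209, 398), (211, 402), (212, 404), (213, 406),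
   (225, 448), (233, 462), (234, 464)],
   [(146, 259), (155, 280), (177, 336), (206, 381), (208, 385), (209, 387), (215, 402), (216, 404), (217, 406),
   (225, 447), (233, 461), (235, 464)],
   [(146, 251), (158, 280), (180, 336), (206, 374), (211, 385), (212, 387), (215, 397), (216, 399), (218, 406),
   (225, 444), (233, 458), (236, 464)],
   [(146, 245), (160, 280), (182, 336), (208, 374), (211, 380), (213, 387), (215, 392), (217, 399), (218, 405),
   (225, 443), (233, 457), (237, 464)],
   [(146, 241), (161, 280), (183, 336), (209, 374), (212, 380), (213, 384), (216, 392), (217, 396), (218, 402),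
   (225, 440), (233, 454), (238, 464)],
   [(151, 259), (155, 268), (187, 336), (206, 360), (208, 364), (209, 366), (220, 402), (221, 404), (222, 406),
   (225, 436), (234, 461), (235, 463)],
   [(151, 251), (158, 268), (190, 336), (206, 355), (211, 364), (212, 366), (220, 397), (221, 399), (223, 406),
   (225, 435), (234, 458), (236, 463)],
   [(151, 245), (160, 268), (192, 336), (208, 355), (211, 361), (213, 366), (220, 392), (222, 399), (223, 405),
   (225, 432), (234, 457), (237, 463)],
   [(151, 241), (161, 268), (193, 336), (209, 355), (212, 361), (213, 365), (221, 392), (222, 396), (223, 402),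
   (225, 431), (234, 454), (238, 463)],
   [(155, 251), (158, 258), (196, 336), (206, 346), (215, 364), (216, 366), (220, 384), (221, 386), (224, 406),
   (225, 426), (235, 458), (236, 460)],
   [(155, 245), (160, 258), (198, 336), (208, 346), (215, 361), (217, 366), (220, 381), (222, 386), (224, 405),
   (225, 425), (235, 457), (237, 460)],
   [(155, 241), (161, 258), (199, 336), (209, 346), (216, 361), (217, 365), (221, 381), (222, 385), (224, 402),
   (225, 422), (235, 454), (238, 460)],
   [(158, 245), (160, 250), (201, 336), (211, 346), (215, 354), (218, 366), (220, 374), (223, 386), (224, 398),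
   (225, 418), (236, 457), (237, 459)],
   [(158, 241), (161, 250), (202, 336), (212, 346), (216, 354), (218, 365), (221, 374), (223, 385), (224, 397),
   (225, 417), (236, 454), (238, 459)],
   [(160, 241), (161, 244), (203, 336), (213, 346), (217, 354), (218, 360), (222, 374), (223, 380), (224, 392),
   (225, 412), (237, 454), (238, 456)],
   [(168, 281), (173, 303), (177, 311), (180, 317), (182, 321), (183, 323), (227, 440), (228, 442), (229, 444),
   (230, 446), (231, 448), (233, 450)],
   [(168, 269), (173, 292), (187, 311), (190, 317), (192, 321), (193, 323), (227, 431), (228, 433), (229, 435),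
   (230, 437), (232, 448), (234, 450)],
   [(168, 259), (177, 292), (187, 302), (196, 317), (198, 321), (199, 323), (227, 422), (228, 424), (229, 426),
   (231, 437), (232, 447), (235, 450)],
   [(168, 251), (180, 292), (190, 302), (196, 310), (201, 321), (202, 323), (227, 417), (228, 419), (230, 426),
   (231, 434), (232, 444), (236, 450)],
   [(168, 245), (182, 292), (192, 302), (198, 310), (201, 316), (203, 323), (227, 412), (229, 419), (230, 425),
   (231, 433), (232, 443), (237, 450)],
   [(168, 241), (183, 292), (193, 302), (199, 310), (202, 316), (203, 320), (228, 412), (229, 416), (230, 422),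
   (231, 430), (232, 440), (238, 450)],
   [(173, 259), (177, 268), (187, 281), (206, 317), (208, 321), (209, 323), (227, 403), (228, 405), (229, 407),
   (233, 437), (234, 447), (235, 449)],
   [(173, 251), (180, 268), (190, 281), (206, 310), (211, 321), (212, 323), (227, 396), (228, 398), (230, 407),
   (233, 434), (234, 444), (236, 449)],
   [(173, 245), (182, 268), (192, 281), (208, 310), (211, 316), (213, 323), (227, 393), (229, 398), (230, 404),
   (233, 433), (234, 443), (237, 449)],
   [(173, 241), (183, 268), (193, 281), (209, 310), (212, 316), (213, 320), (228, 393), (229, 397), (230, 403),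
   (233, 430), (234, 440), (238, 449)],
   [(177, 251), (180, 258), (196, 281), (206, 303), (215, 321), (216, 323), (227, 385), (228, 387), (231, 407),
   (233, 427), (235, 444), (236, 446)],
   [(177, 245), (182, 258), (198, 281), (208, 303), (215, 316), (217, 323), (227, 380), (229, 387), (231, 404),
   (233, 424), (235, 443), (237, 446)],
   [(177, 241), (183, 258), (199, 281), (209, 303), (216, 316), (217, 320), (228, 380), (229, 384), (231, 403),
   (233, 423), (235, 440), (238, 446)],
   [(180, 245), (182, 250), (201, 281), (211, 303), (215, 311), (218, 323), (227, 375), (230, 387), (231, 399),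
   (233, 419), (236, 443), (237, 445)],
   [(180, 241), (183, 250), (202, 281), (212, 303), (216, 311), (218, 320), (228, 375), (230, 384), (231, 396),
   (233, 416), (236, 440), (238, 445)],
   [(182, 241), (183, 244), (203, 281), (213, 303), (217, 311), (218, 317), (229, 375), (230, 381), (231, 393),
   (233, 413), (237, 440), (238, 442)],
   [(187, 251), (190, 258), (196, 269), (206, 292), (220, 321), (221, 323), (227, 364), (228, 366), (232, 407),
   (234, 427), (235, 435), (236, 437)],
   [(187, 245), (192, 258), (198, 269), (208, 292), (220, 316), (222, 323), (227, 361), (229, 366), (232, 404),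
   (234, 424), (235, 432), (237, 437)],
   [(187, 241), (193, 258), (199, 269), (209, 292), (221, 316), (222, 320), (228, 361), (229, 365), (232, 403),
   (234, 423), (235, 431), (238, 437)],
   [(190, 245), (192, 250), (201, 269), (211, 292), (220, 311), (223, 323), (227, 354), (230, 366), (232, 399),
   (234, 419), (236, 432), (237, 434)],
   [(190, 241), (193, 250), (202, 269), (212, 292), (221, 311), (223, 320), (228, 354), (230, 365), (232, 396),
   (234, 416), (236, 431), (238, 434)],
   [(192, 241), (193, 244), (203, 269), (213, 292), (222, 311), (223, 317), (229, 354), (230, 360), (232, 393),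
   (234, 413), (237, 431), (238, 433)],
   [(196, 245), (198, 250), (201, 259), (215, 292), (220, 302), (224, 323), (227, 347), (231, 366), (232, 386),
   (235, 419), (236, 425), (237, 427)],
   [(196, 241), (199, 250), (202, 259), (216, 292), (221, 302), (224, 320), (228, 347), (231, 365), (232, 385),
   (235, 416), (236, 422), (238, 427)],
   [(198, 241), (199, 244), (203, 259), (217, 292), (222, 302), (224, 317), (229, 347), (231, 360), (232, 380),
   (235, 413), (237, 422), (238, 424)],
   [(201, 241), (202, 244), (203, 251), (218, 292), (223, 302), (224, 310), (230, 347), (231, 355), (232, 375),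
   (236, 413), (237, 417), (238, 419)],
   [(206, 245), (208, 250), (211, 259), (215, 268), (220, 281), (225, 323), (227, 336), (233, 366), (234, 386),
   (235, 398), (236, 404), (237, 406)],
   [(206, 241), (209, 250), (212, 259), (216, 268), (221, 281), (225, 320), (228, 336), (233, 365), (234, 385),
   (235, 397), (236, 403), (238, 406)],
   [(208, 241), (209, 244), (213, 259), (217, 268), (222, 281), (225, 317), (229, 336), (233, 360), (234, 380),
   (235, 392), (237, 403), (238, 405)],
   [(211, 241), (212, 244), (213, 251), (218, 268), (223, 281), (225, 310), (230, 336), (233, 355), (234, 375),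
   (236, 392), (237, 396), (238, 398)],
   [(215, 241), (216, 244), (217, 251), (218, 258), (224, 281), (225, 303), (231, 336), (233, 346), (235, 375),
   (236, 381), (237, 385), (238, 387)],
   [(220, 241), (221, 244), (222, 251), (223, 258), (224, 269), (225, 292), (232, 336), (234, 346), (235, 354),
   (236, 360), (237, 364), (238, 366)],
   [(227, 241), (228, 244), (229, 251), (230, 258), (231, 269), (232, 280), (233, 292), (234, 302), (235, 310),
   (236, 316), (237, 320), (238, 322)]]

/-- the columns: for the weight `u` the list of `(r, k)`, `k` the code of `-r` at `u` -/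
def NBT : List (ℕ × List (ℕ × ℕ)) := [
   (120, [(0, 455), (1, 441), (2, 431), (3, 423), (4, 417), (5, 413), (7, 403), (8, 397), (9, 393), (11, 385),
   (12, 381), (14, 375), (17, 365), (18, 361), (20, 355), (23, 347), (27, 337), (33, 321), (34, 317), (36,
   311), (39, 303), (43, 293), (48, 281), (53, 269), (57, 259), (60, 251), (62, 245)]),
   (122, [(0, 456), (1, 442), (2, 432), (3, 424), (4, 418), (6, 413), (7, 404), (8, 398), (10, 393), (11, 386),
   (13, 381), (15, 375), (17, 366), (19, 361), (21, 355), (24, 347), (28, 337), (33, 322), (35, 317), (37,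
   311), (40, 303), (44, 293), (49, 281), (54, 269), (58, 259), (61, 251), (63, 241)]),
   (125, [(0, 459), (1, 445), (2, 435), (3, 427), (5, 418), (6, 416), (7, 407), (9, 398), (10, 396), (12, 386),
   (13, 384), (16, 375), (18, 366), (19, 364), (22, 355), (25, 347), (29, 337), (34, 322), (35, 320), (38,
   311), (41, 303), (45, 293), (50, 281), (55, 269), (59, 259), (64, 245), (65, 241)]),
   (129, [(0, 460), (1, 446), (2, 436), (4, 427), (5, 425), (6, 423), (8, 407), (9, 405), (10, 403), (14, 386),
   (15, 384), (16, 380), (20, 366), (21, 364), (22, 360), (26, 347), (30, 337), (36, 322), (37, 320), (38,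
   316), (42, 303), (46, 293), (51, 281), (56, 269), (66, 251), (67, 245), (68, 241)]),
   (134, [(0, 463), (1, 449), (3, 436), (4, 434), (5, 432), (6, 430), (11, 407), (12, 405), (13, 403), (14,
   399), (15, 397), (16, 393), (23, 366), (24, 364), (25, 360), (26, 354), (31, 337), (39, 322), (40, 320),
   (41, 316), (42, 310), (47, 293), (52, 281), (69, 259), (70, 251), (71, 245), (72, 241)]),
   (140, [(0, 464), (2, 449), (3, 447), (4, 445), (5, 443), (6, 441), (17, 407), (18, 405), (19, 403), (20,
   399), (21, 397), (22, 393), (23, 387), (24, 385), (25, 381), (26, 375), (32, 337), (43, 322), (44, 320),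
   (45, 316), (46, 310), (47, 302), (73, 269), (74, 259), (75, 251), (76, 245), (77, 241)]),
   (146, [(0, 466), (1, 450), (7, 436), (8, 434), (9, 432), (10, 430), (11, 426), (12, 424), (13, 422), (14,
   418), (15, 416), (16, 412), (27, 366), (28, 364), (29, 360), (30, 354), (31, 346), (48, 322), (49, 320),
   (50, 316), (51, 310), (52, 302), (78, 269), (79, 259), (80, 251), (81, 245), (82, 241)]),
   (151, [(0, 468), (2, 451), (7, 446), (8, 444), (9, 442), (10, 440), (17, 427), (18, 425), (19, 423), (20,
   419), (21, 417), (22, 413), (27, 386), (28, 384), (29, 380), (30, 374), (32, 347), (53, 322), (54, 320),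
   (55, 316), (56, 310), (73, 292), (78, 280), (83, 259), (84, 251), (85, 245), (86, 241)]),
   (155, [(0, 470), (3, 450), (7, 448), (11, 445), (12, 443), (13, 441), (17, 435), (18, 433), (19, 431), (23,
   418), (24, 416), (25, 412), (27, 398), (28, 396), (29, 392), (31, 375), (32, 355), (57, 322), (58, 320),
   (59, 316), (69, 302), (74, 292), (79, 280), (83, 268), (87, 251), (88, 245), (89, 241)]),
   (158, [(0, 472), (4, 451), (8, 449), (11, 447), (14, 442), (15, 440), (17, 437), (20, 432), (21, 430), (23,
   424), (24, 422), (26, 413), (27, 404), (28, 402), (30, 393), (31, 381), (32, 361), (60, 322), (61, 320),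
   (66, 310), (70, 302), (75, 292), (80, 280), (84, 268), (87, 258), (90, 245), (91, 241)]),
   (160, [(0, 474), (5, 450), (9, 448), (12, 446), (14, 444), (16, 441), (18, 436), (20, 434), (22, 431), (23,
   426), (25, 423), (26, 417), (27, 406), (29, 403), (30, 397), (31, 385), (32, 365), (62, 322), (64, 316),
   (67, 310), (71, 302), (76, 292), (81, 280), (85, 268), (88, 258), (90, 250), (92, 241)]),
   (161, [(0, 476), (6, 451), (10, 449), (13, 447), (15, 445), (16, 443), (19, 437), (21, 435), (22, 433), (24,
   427), (25, 425), (26, 419), (28, 407), (29, 405), (30, 399), (31, 387), (32, 367), (63, 320), (65, 316),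
   (68, 310), (72, 302), (77, 292), (82, 280), (86, 268), (89, 258), (91, 250), (92, 244)]),
   (168, [(1, 464), (2, 462), (3, 460), (4, 458), (5, 456), (6, 454), (33, 406), (34, 404), (35, 402), (36,
   398), (37, 396), (38, 392), (39, 386), (40, 384), (41, 380), (42, 374), (43, 366), (44, 364), (45, 360),
   (46, 354), (47, 346), (93, 281), (94, 269), (95, 259), (96, 251), (97, 245), (98, 241)]),
   (173, [(1, 468), (2, 466), (7, 461), (8, 459), (9, 457), (10, 455), (33, 426), (34, 424), (35, 422), (36,
   418), (37, 416), (38, 412), (48, 387), (49, 385), (50, 381), (51, 375), (53, 366), (54, 364), (55, 360),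
   (56, 354), (78, 336), (93, 303), (94, 292), (99, 259), (100, 251), (101, 245), (102, 241)]),
   (177, [(1, 470), (3, 467), (7, 463), (11, 458), (12, 456), (13, 454), (33, 434), (34, 432), (35, 430), (39,
   419), (40, 417), (41, 413), (48, 399), (49, 397), (50, 393), (52, 374), (57, 366), (58, 364), (59, 360),
   (69, 346), (79, 336), (93, 311), (95, 292), (99, 268), (103, 251), (104, 245), (105, 241)]),
   (180, [(1, 472), (4, 466), (8, 462), (11, 460), (14, 457), (15, 455), (33, 436), (36, 433), (37, 431), (39,
   425), (40, 423), (42, 412), (48, 405), (49, 403), (51, 392), (52, 380), (60, 366), (61, 364), (66, 354),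
   (70, 346), (80, 336), (93, 317), (96, 292), (100, 268), (103, 258), (106, 245), (107, 241)]),
   (182, [(1, 474), (5, 467), (9, 463), (12, 461), (14, 459), (16, 454), (34, 437), (36, 435), (38, 430), (39,
   427), (41, 422), (42, 416), (48, 407), (50, 402), (51, 396), (52, 384), (62, 366), (64, 360), (67, 354),
   (71, 346), (81, 336), (93, 321), (97, 292), (101, 268), (104, 258), (106, 250), (108, 241)]),
   (183, [(1, 476), (6, 466), (10, 462), (13, 460), (15, 458), (16, 456), (35, 436), (37, 434), (38, 432), (40,
   426), (41, 424), (42, 418), (49, 406), (50, 404), (51, 398), (52, 386), (63, 364), (65, 360), (68, 354),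
   (72, 346), (82, 336), (93, 323), (98, 292), (102, 268), (105, 258), (107, 250), (108, 244)]),
   (187, [(2, 471), (3, 469), (7, 465), (17, 459), (18, 457), (19, 455), (33, 444), (34, 442), (35, 440), (43,
   418), (44, 416), (45, 412), (53, 399), (54, 397), (55, 393), (57, 386), (58, 384), (59, 380), (73, 354),
   (74, 347), (83, 336), (94, 311), (95, 302), (99, 281), (109, 251), (110, 245), (111, 241)]),
   (190, [(2, 473), (4, 468), (8, 464), (17, 461), (20, 456), (21, 454), (33, 446), (36, 443), (37, 441), (43,
   424), (44, 422), (46, 413), (53, 405), (54, 403), (56, 392), (60, 386), (61, 384), (66, 374), (73, 360),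
   (75, 347), (84, 336), (94, 317), (96, 302), (100, 281), (109, 258), (112, 245), (113, 241)]),
   (192, [(2, 475), (5, 469), (9, 465), (18, 460), (20, 458), (22, 455), (34, 447), (36, 445), (38, 440), (43,
   426), (45, 423), (46, 417), (53, 407), (55, 402), (56, 396), (62, 386), (64, 380), (67, 374), (73, 364),
   (76, 347), (85, 336), (94, 321), (97, 302), (101, 281), (110, 258), (112, 250), (114, 241)]),
   (193, [(2, 477), (6, 468), (10, 464), (19, 461), (21, 459), (22, 457), (35, 446), (37, 444), (38, 442), (44,
   427), (45, 425), (46, 419), (54, 406), (55, 404), (56, 398), (63, 384), (65, 380), (68, 374), (73, 366),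
   (77, 347), (86, 336), (94, 323), (98, 302), (102, 281), (111, 258), (113, 250), (114, 244)]),
   (196, [(3, 472), (4, 470), (11, 465), (17, 463), (23, 457), (24, 455), (33, 448), (39, 442), (40, 440), (43,
   432), (44, 430), (47, 412), (57, 405), (58, 403), (60, 398), (61, 396), (69, 380), (70, 375), (74, 360),
   (75, 355), (87, 336), (95, 317), (96, 310), (103, 281), (109, 269), (115, 245), (116, 241)]),
   (198, [(3, 474), (5, 471), (12, 464), (18, 462), (23, 459), (25, 454), (34, 449), (39, 444), (41, 441), (43,
   434), (45, 431), (47, 416), (57, 407), (59, 402), (62, 398), (64, 392), (69, 384), (71, 375), (74, 364),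
   (76, 355), (88, 336), (95, 321), (97, 310), (104, 281), (110, 269), (115, 250), (117, 241)]),
   (199, [(3, 476), (6, 470), (13, 465), (19, 463), (24, 458), (25, 456), (35, 448), (40, 445), (41, 443), (44,
   435), (45, 433), (47, 418), (58, 406), (59, 404), (63, 396), (65, 392), (69, 386), (72, 375), (74, 366),
   (77, 355), (89, 336), (95, 323), (98, 310), (105, 281), (111, 269), (116, 250), (117, 244)]),
   (201, [(4, 475), (5, 473), (14, 465), (20, 463), (23, 461), (26, 455), (36, 448), (39, 446), (42, 440), (43,
   436), (46, 430), (47, 422), (60, 407), (62, 404), (66, 396), (67, 393), (70, 384), (71, 381), (75, 364),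
   (76, 361), (90, 336), (96, 321), (97, 316), (106, 281), (112, 269), (115, 259), (118, 241)]),
   (202, [(4, 477), (6, 472), (15, 464), (21, 462), (24, 460), (26, 457), (37, 449), (40, 447), (42, 442), (44,
   437), (46, 432), (47, 424), (61, 406), (63, 402), (66, 398), (68, 393), (70, 386), (72, 381), (75, 366),
   (77, 361), (91, 336), (96, 323), (98, 316), (107, 281), (113, 269), (116, 259), (118, 244)]),
   (203, [(5, 476), (6, 474), (16, 465), (22, 463), (25, 461), (26, 459), (38, 448), (41, 446), (42, 444), (45,
   436), (46, 434), (47, 426), (64, 404), (65, 403), (67, 398), (68, 397), (71, 386), (72, 385), (76, 366),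
   (77, 365), (92, 336), (97, 323), (98, 320), (108, 281), (114, 269), (117, 259), (118, 251)]),
   (206, [(7, 473), (8, 471), (11, 469), (17, 467), (27, 456), (28, 454), (33, 450), (48, 443), (49, 441), (53,
   432), (54, 430), (57, 425), (58, 423), (60, 418), (61, 416), (78, 392), (79, 381), (80, 374), (83, 360),
   (84, 355), (87, 346), (99, 317), (100, 310), (103, 303), (109, 292), (119, 245), (120, 241)]),
   (208, [(7, 475), (9, 470), (12, 468), (18, 466), (27, 458), (29, 455), (34, 451), (48, 445), (50, 440), (53,
   434), (55, 431), (57, 427), (59, 422), (62, 418), (64, 412), (78, 396), (79, 385), (81, 374), (83, 364),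
   (85, 355), (88, 346), (99, 321), (101, 310), (104, 303), (110, 292), (119, 250), (121, 241)]),
   (209, [(7, 477), (10, 471), (13, 469), (19, 467), (28, 459), (29, 457), (35, 450), (49, 444), (50, 442),
   (54, 435), (55, 433), (58, 426), (59, 424), (63, 416), (65, 412), (78, 398), (79, 387), (82, 374), (83,
   366), (86, 355), (89, 346), (99, 323), (102, 310), (105, 303), (111, 292), (120, 250), (121, 244)]),
   (211, [(8, 474), (9, 472), (14, 469), (20, 467), (27, 460), (30, 454), (36, 450), (48, 447), (51, 441), (53,
   436), (56, 430), (60, 427), (62, 424), (66, 416), (67, 413), (78, 402), (80, 385), (81, 380), (84, 364),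
   (85, 361), (90, 346), (100, 321), (101, 316), (106, 303), (112, 292), (119, 259), (122, 241)]),
   (212, [(8, 476), (10, 473), (15, 468), (21, 466), (28, 461), (30, 456), (37, 451), (49, 446), (51, 443),
   (54, 437), (56, 432), (61, 426), (63, 422), (66, 418), (68, 413), (78, 404), (80, 387), (82, 380), (84,
   366), (86, 361), (91, 346), (100, 323), (102, 316), (107, 303), (113, 292), (120, 259), (122, 244)]),
   (213, [(9, 477), (10, 475), (16, 469), (22, 467), (29, 460), (30, 458), (38, 450), (50, 447), (51, 445),
   (55, 436), (56, 434), (64, 424), (65, 423), (67, 418), (68, 417), (78, 406), (81, 387), (82, 384), (85,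
   366), (86, 365), (92, 346), (101, 323), (102, 320), (108, 303), (114, 292), (121, 259), (122, 251)]),
   (215, [(11, 475), (12, 473), (14, 471), (23, 466), (27, 462), (31, 455), (39, 451), (48, 449), (52, 440),
   (57, 436), (60, 435), (62, 432), (69, 422), (70, 417), (71, 412), (79, 402), (80, 397), (81, 392), (87,
   364), (88, 361), (90, 354), (103, 321), (104, 316), (106, 311), (115, 292), (119, 268), (123, 241)]),
   (216, [(11, 477), (13, 472), (15, 470), (24, 467), (28, 463), (31, 457), (40, 450), (49, 448), (52, 442),
   (58, 437), (61, 434), (63, 430), (69, 424), (70, 419), (72, 412), (79, 404), (80, 399), (82, 392), (87,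
   366), (89, 361), (91, 354), (103, 323), (105, 316), (107, 311), (116, 292), (120, 268), (123, 244)]),
   (217, [(12, 476), (13, 474), (16, 471), (25, 466), (29, 462), (31, 459), (41, 451), (50, 449), (52, 444),
   (59, 436), (64, 432), (65, 431), (69, 426), (71, 419), (72, 416), (79, 406), (81, 399), (82, 396), (88,
   366), (89, 365), (92, 354), (104, 323), (105, 320), (108, 311), (117, 292), (121, 268), (123, 251)]),
   (218, [(14, 477), (15, 475), (16, 473), (26, 467), (30, 463), (31, 461), (42, 450), (51, 448), (52, 446),
   (66, 434), (67, 433), (68, 430), (70, 426), (71, 425), (72, 422), (80, 406), (81, 405), (82, 402), (90,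
   366), (91, 365), (92, 360), (106, 323), (107, 320), (108, 317), (118, 292), (122, 268), (123, 258)]),
   (220, [(17, 474), (18, 472), (20, 470), (23, 468), (27, 464), (32, 454), (43, 450), (53, 449), (57, 446),
   (60, 445), (62, 442), (73, 430), (74, 423), (75, 416), (76, 413), (83, 402), (84, 397), (85, 392), (87,
   384), (88, 381), (90, 374), (109, 321), (110, 316), (112, 311), (115, 302), (119, 281), (124, 241)]),
   (221, [(17, 476), (19, 473), (21, 471), (24, 469), (28, 465), (32, 456), (44, 451), (54, 448), (58, 447),
   (61, 444), (63, 440), (73, 432), (74, 425), (75, 418), (77, 413), (83, 404), (84, 399), (86, 392), (87,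
   386), (89, 381), (91, 374), (109, 323), (111, 316), (113, 311), (116, 302), (120, 281), (124, 244)]),
   (222, [(18, 477), (19, 475), (22, 470), (25, 468), (29, 464), (32, 458), (45, 450), (55, 449), (59, 446),
   (64, 442), (65, 441), (73, 434), (74, 427), (76, 418), (77, 417), (83, 406), (85, 399), (86, 396), (88,
   386), (89, 385), (92, 374), (110, 323), (111, 320), (114, 311), (117, 302), (121, 281), (124, 251)]),
   (223, [(20, 476), (21, 474), (22, 472), (26, 469), (30, 465), (32, 460), (46, 451), (56, 448), (66, 444),
   (67, 443), (68, 440), (73, 436), (75, 427), (76, 424), (77, 423), (84, 406), (85, 405), (86, 402), (90,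
   386), (91, 385), (92, 380), (112, 323), (113, 320), (114, 317), (118, 302), (122, 281), (124, 258)]),
   (224, [(23, 477), (24, 475), (25, 473), (26, 471), (31, 464), (32, 462), (47, 450), (69, 446), (70, 445),
   (71, 442), (72, 441), (74, 436), (75, 435), (76, 432), (77, 431), (87, 406), (88, 405), (89, 402), (90,
   398), (91, 397), (92, 392), (115, 323), (116, 320), (117, 317), (118, 310), (123, 281), (124, 269)]),
   (225, [(27, 476), (28, 474), (29, 472), (30, 470), (31, 468), (32, 466), (78, 448), (79, 447), (80, 444),
   (81, 443), (82, 440), (83, 436), (84, 435), (85, 432), (86, 431), (87, 426), (88, 425), (89, 422), (90,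
   418), (91, 417), (92, 412), (119, 323), (120, 320), (121, 317), (122, 310), (123, 303), (124, 292)]),
   (227, [(33, 474), (34, 472), (36, 470), (39, 468), (43, 466), (48, 464), (53, 463), (57, 460), (60, 459),
   (62, 456), (93, 440), (94, 431), (95, 422), (96, 417), (97, 412), (99, 403), (100, 396), (101, 393), (103,
   385), (104, 380), (106, 375), (109, 364), (110, 361), (112, 354), (115, 347), (119, 336), (125, 241)]),
   (228, [(33, 476), (35, 473), (37, 471), (40, 469), (44, 467), (49, 465), (54, 462), (58, 461), (61, 458),
   (63, 454), (93, 442), (94, 433), (95, 424), (96, 419), (98, 412), (99, 405), (100, 398), (102, 393), (103,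
   387), (105, 380), (107, 375), (109, 366), (111, 361), (113, 354), (116, 347), (120, 336), (125, 244)]),
   (229, [(34, 477), (35, 475), (38, 470), (41, 468), (45, 466), (50, 464), (55, 463), (59, 460), (64, 456),
   (65, 455), (93, 444), (94, 435), (95, 426), (97, 419), (98, 416), (99, 407), (101, 398), (102, 397), (104,
   387), (105, 384), (108, 375), (110, 366), (111, 365), (114, 354), (117, 347), (121, 336), (125, 251)]),
   (230, [(36, 476), (37, 474), (38, 472), (42, 469), (46, 467), (51, 465), (56, 462), (66, 458), (67, 457),
   (68, 454), (93, 446), (94, 437), (96, 426), (97, 425), (98, 422), (100, 407), (101, 404), (102, 403), (106,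
   387), (107, 384), (108, 381), (112, 366), (113, 365), (114, 360), (118, 347), (122, 336), (125, 258)]),
   (231, [(39, 477), (40, 475), (41, 473), (42, 471), (47, 466), (52, 464), (69, 460), (70, 459), (71, 456),
   (72, 455), (93, 448), (95, 437), (96, 434), (97, 433), (98, 430), (103, 407), (104, 404), (105, 403), (106,
   399), (107, 396), (108, 393), (115, 366), (116, 365), (117, 360), (118, 355), (123, 336), (125, 269)]),
   (232, [(43, 476), (44, 474), (45, 472), (46, 470), (47, 468), (73, 462), (74, 461), (75, 458), (76, 457),
   (77, 454), (94, 448), (95, 447), (96, 444), (97, 443), (98, 440), (109, 407), (110, 404), (111, 403), (112,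
   399), (113, 396), (114, 393), (115, 386), (116, 385), (117, 380), (118, 375), (124, 336), (125, 280)]),
   (233, [(48, 476), (49, 474), (50, 472), (51, 470), (52, 468), (78, 462), (79, 461), (80, 458), (81, 457),
   (82, 454), (93, 450), (99, 437), (100, 434), (101, 433), (102, 430), (103, 427), (104, 424), (105, 423),
   (106, 419), (107, 416), (108, 413), (119, 366), (120, 365), (121, 360), (122, 355), (123, 346), (125, 292)]),
   (234, [(53, 476), (54, 474), (55, 472), (56, 470), (73, 466), (78, 464), (83, 461), (84, 458), (85, 457),
   (86, 454), (94, 450), (99, 447), (100, 444), (101, 443), (102, 440), (109, 427), (110, 424), (111, 423),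
   (112, 419), (113, 416), (114, 413), (119, 386), (120, 385), (121, 380), (122, 375), (124, 346), (125, 302)]),
   (235, [(57, 476), (58, 474), (59, 472), (69, 468), (74, 466), (79, 464), (83, 463), (87, 458), (88, 457),
   (89, 454), (95, 450), (99, 449), (103, 444), (104, 443), (105, 440), (109, 435), (110, 432), (111, 431),
   (115, 419), (116, 416), (117, 413), (119, 398), (120, 397), (121, 392), (123, 375), (124, 354), (125, 310)]),
   (236, [(60, 476), (61, 474), (66, 470), (70, 468), (75, 466), (80, 464), (84, 463), (87, 460), (90, 457),
   (91, 454), (96, 450), (100, 449), (103, 446), (106, 443), (107, 440), (109, 437), (112, 432), (113, 431),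
   (115, 425), (116, 422), (118, 413), (119, 404), (120, 403), (122, 392), (123, 381), (124, 360), (125, 316)]),
   (237, [(62, 476), (64, 472), (67, 470), (71, 468), (76, 466), (81, 464), (85, 463), (88, 460), (90, 459),
   (92, 454), (97, 450), (101, 449), (104, 446), (106, 445), (108, 440), (110, 437), (112, 434), (114, 431),
   (115, 427), (117, 422), (118, 417), (119, 406), (121, 403), (122, 396), (123, 385), (124, 364), (125, 320)]),
   (238, [(63, 474), (65, 472), (68, 470), (72, 468), (77, 466), (82, 464), (86, 463), (89, 460), (91, 459),
   (92, 456), (98, 450), (102, 449), (105, 446), (107, 445), (108, 442), (111, 437), (113, 434), (114, 433),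
   (116, 427), (117, 424), (118, 419), (120, 406), (121, 405), (122, 398), (123, 387), (124, 366), (125, 322)])]

/-- the non-zero entries of `h` -/
def fm (h : ℕ → ℕ) (L : List ℕ) : List (ℕ × ℕ) := L.filterMap fun u => bif Nat.beq (h u) 0 then none else some (u, h u)

theorem chkRW : ((List.range 126).all fun r => RWT.getD r [] == fm (fun u => lk (PT.getD (125 - r) 0) (u - 120)) W56) = true := by
  decide +kernel

theorem chkNB : (NBT.all fun x => x.2 == fm (fun r => lk (PT.getD (125 - r) 0) (x.1 - 120)) (List.range 126)) = true := by
  decide +kernel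

theorem chkNB1 : (NBT.map fun x => x.1) = W56 := by decide +kernel

theorem sum_fm (h : ℕ → ℕ) (G : ℕ → ℕ → F) (L : List ℕ) : ((fm h L).map fun x => G x.1 x.2).sum =
    (L.map fun u => if h u = 0 then 0 else G u (h u)).sum := by
  induction L with
  | nil => rfl
  | cons u L ih =>
    rw [List.map_cons, List.sum_cons, ← ih]
    unfold fm
    by_cases hu : h u = 0
    · rw [List.filterMap_cons_none (by rw [hu]; rfl), if_pos hu, zero_add]
    · rw [List.filterMap_cons_some (b := (u, h u)) (by rw [beq_zero_false hu]; rfl), List.map_cons, List.sum_cons, if_neg hu]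

/-- packed elements of the Lie algebra: 4 bits for each root, then for each simple coroot -/
def q (Q r : ℕ) : ℕ := Nat.land (Nat.shiftRight Q (4 * r)) 15

/-- the element of the Lie algebra -/
def qv (F : Type u) [Field F] (Q : ℕ) : chevE7.Idx → F := Sum.elim (fun i => ((q Q (126 + i) : ℕ) : F)) (fun r => ((q Q r : ℕ) : F))

/-- the value `sf (N_r x) y` -/
def cr (A B r : ℕ) : ℕ := ((RWT.getD r []).map fun x =>
  let o := lk OPN (x.1 - 120)
  sn x.2 * pa A (x.2 / 2) * (sn o * pa B (o / 2))).sum

/-- residue of an integer -/
def zr (z : ℤ) : ℕ := (z % 5).toNat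

/-- the packed table of the residues of the Cartan integers -/
def CKN : ℕ := 0x100000004100000004100000004100000004110000004110000014000001441000140010014000101400001040000010000000000000014000010440001410400140104014001040400010400000000000104000014140001401400040014000000000000104010014140100401401000000000010400100414001000000000004000100000000000000000001000400141004004010040000000000104104004141040000000000040104000000000000000000100410004104100000000000041410000000000000000000004010000000000000000000000000001000401041004010000000000410401000000000000000000041401000000000000000000000000000040110000000000000000000000000000000000000041000000000000000000000000000000000000000000000000010000040410000400000000004100040000000000000000000410040000000000000000000000000000411400000000000000000000000000000000000004100000000000000000000000000000000000000000000001440000000000000000000000000000000000000000000014400000000000000000000000000000000000014000000000000000000000000000001400000000000000000000014000000000000004000000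

/-- the packed table of the residues of `mmn` -/
def MKN : ℕ := 0x340143201401432012014320123143201234432012342320123441201234212012322120121221201012212040122120000000001234230012342100123221001212210010122100401221000000000012320100121201001012010040120100000000001210010010100100401001000000000010400100404001000000000043400100000000000000000012100400101004004010040000000000104004004040040000000000434004000000000000000000104304004043040000000000434304000000000000000000432304000000000000000000000000001043340040433400000000004343340000000000000000004323340000000000000000000000000043213400000000000000000000000000000000004321320000000000000000000000000000000000000000000000000010433430404334300000000043433430000000000000000043233430000000000000000000000000432134300000000000000000000000000000000043211430000000000000000000000000000000000000000043213230000000000000000000000000000000000000000043211230000000000000000000000000000000004324123000000000000000000000000043041230000000000000000041041230000000002104123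

/-- the residue of the Cartan integer -/
def ck (s i : ℕ) : ℕ := Nat.land (Nat.shiftRight CKN (Nat.mul 4 (Nat.add (Nat.mul 8 (Nat.sub s 120)) i))) 15

/-- the residue of `mmn` -/
def mk (s i : ℕ) : ℕ := Nat.land (Nat.shiftRight MKN (Nat.mul 4 (Nat.add (Nat.mul 8 (Nat.sub s 120)) i))) 15

theorem chkCK : (W56.all fun s => (List.range 7).all fun i => Nat.beq (ck s i) (zr (chevE8.cartan i s)) &&
    Nat.beq (mk s i) (zr (mmn s i))) = true := by decide +kernel

theorem ck_spec (a : D1) {i : ℕ} (hi : i < 7) : ck (nn a) i = zr (chevE8.cartan i (nn a)) ∧ mk (nn a) i = zr (mmn (nn a) i) := by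
  have h := List.all_eq_true.1 (List.all_eq_true.1 chkCK (nn a) (nn_mem a)) i (List.mem_range.2 hi)
  rw [Bool.and_eq_true] at h
  exact ⟨Nat.eq_of_beq_eq_true h.1, Nat.eq_of_beq_eq_true h.2⟩

/-- the Cartan coordinates -/
def ch (A B i : ℕ) : ℕ := (W56.map fun s =>
  let o := lk OPN (s - 120)
  pa A s * sn o * pa B (o / 2) * mk s i).sum

/-- the check of `dd` -/
def chkQ (A B Q : ℕ) : Bool :=
  ((List.range 126).all fun r => Nat.beq ((3 * cr A B (125 - r)) % 5) (q Q r)) &&
  ((List.range 7).all fun i => Nat.beq ((4 * ch A B i) % 5) (q Q (126 + i)))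

/-- the check of `del` -/
def chkD (Q C E : ℕ) : Bool :=
  NBT.all fun x => Nat.beq ((((x.2.map fun y => q Q y.1 * (sn y.2 * pa C (y.2 / 2))).sum +
    ((List.range 7).map fun i => q Q (126 + i) * (ck x.1 i * pa C x.1)).sum)) % 5) (pa E x.1)

theorem OPN_spec (a : D1) : lk OPN (nn a - 120) / 2 = nn (op a) ∧ se F (lk OPN (nn a - 120)) = ((ep a : ℤ) : F) := by
  have h := Nat.eq_of_beq_eq_true (List.all_eq_true.1 chkOPN (nn a) (nn_mem a))
  rw [h, st_eq]
  rcases sq_cases (ep_sq a) with h1 | h1
  · rw [h1]
    show (2 * nn (op a) + 0) / 2 = _ ∧ se F (2 * nn (op a) + 0) = _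
    refine ⟨by omega, ?_⟩
    unfold se
    rw [if_pos (by omega)]; simp
  · rw [h1]
    show (2 * nn (op a) + 1) / 2 = _ ∧ se F (2 * nn (op a) + 1) = _
    refine ⟨by omega, ?_⟩
    unfold se
    rw [if_neg (by omega)]; simp

section five
variable [CharP F 5]

theorem zr_cast (z : ℤ) : ((zr z : ℕ) : F) = (z : F) := by
  have h5 : (5 : F) = 0 := five_zero
  unfold zr
  have h1 : ((z % 5).toNat : ℤ) = z % 5 := Int.toNat_of_nonneg (Int.emod_nonneg _ (by norm_num))
  have h2 : (((z % 5).toNat : ℕ) : F) = ((z % 5 : ℤ) : F) := by
    rw [← Int.cast_natCast (R := F), h1]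
  rw [h2]
  conv_rhs => rw [← Int.mul_ediv_add_emod z 5]
  push_cast
  rw [h5]; ring

theorem cr_spec {r : ℕ} (hr : r < 126) (A B : ℕ) : ((cr A B r : ℕ) : F) = sf F (NM F r *ᵥ lv F (pl A)) (lv F (pl B)) := by
  rw [sf_sum]
  have h1 : RWT.getD r [] = fm (fun u => lk (PT.getD (125 - r) 0) (u - 120)) W56 := by
    have := List.all_eq_true.1 chkRW r (List.mem_range.2 hr)
    exact eq_of_beq this
  unfold cr
  rw [h1, Nat.cast_list_sum, List.map_map]
  rw [show (List.map (Nat.cast ∘ fun x : ℕ × ℕ => sn x.2 * pa A (x.2 / 2) * (sn (lk OPN (x.1 - 120)) * pa B (lk OPN (x.1 - 120) / 2)))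
      (fm (fun u => lk (PT.getD (125 - r) 0) (u - 120)) W56)) =
      (fm (fun u => lk (PT.getD (125 - r) 0) (u - 120)) W56).map fun x => (fun u k => (((sn k * pa A (k / 2) *
        (sn (lk OPN (u - 120)) * pa B (lk OPN (u - 120) / 2)) : ℕ)) : F)) x.1 x.2 from rfl]
  rw [sum_fm (fun u => lk (PT.getD (125 - r) 0) (u - 120)) (fun u k => (((sn k * pa A (k / 2) *
        (sn (lk OPN (u - 120)) * pa B (lk OPN (u - 120) / 2)) : ℕ)) : F)) W56, ← sumD1]
  refine Finset.sum_congr rfl fun a _ => ?_
  rcases NM_code hr (lv F (pl A)) a with ⟨h2, h3⟩ | ⟨h2, b, h3, h4⟩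
  · rw [h2, if_pos rfl, h3, zero_mul]
  · rw [if_neg h2, h4, h3]
    obtain ⟨h5, h6⟩ := OPN_spec (F := F) a
    push_cast
    rw [sn_cast, sn_cast, h5, h6, lv_pl, lv_pl]

theorem ch_spec (A B : ℕ) {i : ℕ} (hi : i < 7) : ((ch A B i : ℕ) : F) = ∑ a : D1, lv F (pl A) a * ((ep a : ℤ) : F) * lv F (pl B) (op a) *
    ((mmn (nn a) i : ℤ) : F) := by
  unfold ch
  rw [Nat.cast_list_sum, List.map_map]
  rw [show (List.map (Nat.cast ∘ fun s => pa A s * sn (lk OPN (s - 120)) * pa B (lk OPN (s - 120) / 2) * mk s i) W56) =
    W56.map (fun s => ((pa A s * sn (lk OPN (s - 120)) * pa B (lk OPN (s - 120) / 2) * mk s i : ℕ) : F)) from rfl,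
    ← sumD1]
  refine Finset.sum_congr rfl fun a _ => ?_
  obtain ⟨h5, h6⟩ := OPN_spec (F := F) a
  push_cast
  rw [sn_cast, h5, h6, (ck_spec a hi).2, zr_cast, lv_pl, lv_pl]

theorem dd_eval {A B Q : ℕ} (h : chkQ A B Q = true) : dd (lv F (pl A)) (lv F (pl B)) = qv F Q := by
  have h5 : (5 : F) = 0 := five_zero
  unfold chkQ at h
  rw [Bool.and_eq_true] at h
  funext j
  rcases j with i | r
  · have h1 := Nat.eq_of_beq_eq_true (List.all_eq_true.1 h.2 i (List.mem_range.2 i.2))
    show _ = ((q Q (126 + i) : ℕ) : F)
    rw [dd_inl, ← h1, castmod]
    push_cast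
    rw [ch_spec A B i.2]
    linear_combination (- ∑ a : D1, lv F (pl A) a * ((ep a : ℤ) : F) * lv F (pl B) (op a) * ((mmn (nn a) i : ℤ) : F)) * h5
  · have hr : (r : ℕ) < 126 := r.2
    have h1 := Nat.eq_of_beq_eq_true (List.all_eq_true.1 h.1 r (List.mem_range.2 hr))
    show _ = ((q Q r : ℕ) : F)
    rw [dd_inr, ← h1, castmod]
    push_cast
    rw [cr_spec (by omega)]
    linear_combination (- sf F (NM F (125 - r) *ᵥ lv F (pl A)) (lv F (pl B))) * h5

omit [CharP F 5] in
theorem del_mulVec (z : chevE7.Idx → F) (w : D1 → F) (a : D1) : (del F z *ᵥ w) a =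
    (∑ r ∈ Finset.range 126, (if h : r < 126 then z (Sum.inr ⟨r, h⟩) else 0) * (NM F r *ᵥ w) a) +
    ∑ i : Fin chevE7.rank, z (Sum.inl i) * (((chevE8.cartan i (nn a) : ℤ) : F) * w a) := by
  rw [del_apply, Matrix.add_mulVec, Pi.add_apply, Matrix.sum_mulVec, Matrix.sum_mulVec, Finset.sum_apply, Finset.sum_apply,
    add_comm]
  congr 1
  · show ∑ r : Fin 126, _ = _
    rw [Finset.sum_fin_eq_sum_range]
    refine Finset.sum_congr rfl fun r hr => ?_
    have hr' := Finset.mem_range.1 hr
    rw [dif_pos hr', dif_pos hr', Matrix.smul_mulVec, Pi.smul_apply, smul_eq_mul]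
    rfl
  · refine Finset.sum_congr rfl fun i _ => ?_
    rw [Matrix.smul_mulVec, Pi.smul_apply, smul_eq_mul, Hi_mulVec]

omit [CharP F 5] in
theorem list_sum_range (f : ℕ → F) (n : ℕ) : ((List.range n).map f).sum = ∑ i ∈ Finset.range n, f i := by
  induction n with
  | zero => rfl
  | succ n ih => rw [List.range_succ, List.map_append, List.sum_append, ih, Finset.sum_range_succ]; simp

theorem del_eval {Q C E : ℕ} (h : chkD Q C E = true) : del F (qv F Q) *ᵥ lv F (pl C) = lv F (pl E) := by
  funext a
  have ha : nn a ∈ NBT.map fun x => x.1 := by rw [chkNB1]; exact nn_mem a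
  obtain ⟨x, hx, hxa⟩ := List.mem_map.1 ha
  have h1 := Nat.eq_of_beq_eq_true (List.all_eq_true.1 h x hx)
  have h2 : x.2 = fm (fun r => lk (PT.getD (125 - r) 0) (x.1 - 120)) (List.range 126) :=
    eq_of_beq (List.all_eq_true.1 chkNB x hx)
  rw [hxa] at h1 h2
  rw [del_mulVec, lv_pl E a, ← h1, castmod, Nat.cast_add]
  congr 1
  · rw [h2, Nat.cast_list_sum, List.map_map]
    rw [show (List.map (Nat.cast ∘ fun y : ℕ × ℕ => q Q y.1 * (sn y.2 * pa C (y.2 / 2)))
      (fm (fun r => lk (PT.getD (125 - r) 0) (nn a - 120)) (List.range 126))) =
      (fm (fun r => lk (PT.getD (125 - r) 0) (nn a - 120)) (List.range 126)).map fun y =>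
        (fun r k => ((q Q r * (sn k * pa C (k / 2)) : ℕ) : F)) y.1 y.2 from rfl]
    rw [sum_fm (fun r => lk (PT.getD (125 - r) 0) (nn a - 120)) (fun r k => ((q Q r * (sn k * pa C (k / 2)) : ℕ) : F))
      (List.range 126), list_sum_range]
    refine Finset.sum_congr rfl fun r hr => ?_
    have hr' := Finset.mem_range.1 hr
    rw [dif_pos hr']
    show ((q Q r : ℕ) : F) * _ = _
    rcases NM_code hr' (lv F (pl C)) a with ⟨h3, h4⟩ | ⟨h3, b, h4, h5⟩
    · rw [h3, if_pos rfl, h4, mul_zero]
    · rw [if_neg h3, h5, h4]
      push_cast
      rw [sn_cast, lv_pl]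
  · rw [Nat.cast_list_sum, List.map_map]
    rw [show (Nat.cast ∘ fun i => q Q (126 + i) * (ck (nn a) i * pa C (nn a)) : ℕ → F) =
      fun i => ((q Q (126 + i) * (ck (nn a) i * pa C (nn a)) : ℕ) : F) from rfl, sum_range7]
    refine Finset.sum_congr rfl fun i _ => ?_
    show ((q Q (126 + i) : ℕ) : F) * _ = _
    push_cast
    rw [(ck_spec a i.2).1, zr_cast, lv_pl]

/-- **the evaluation of `DD`** -/
theorem DD_eval {A B C Q E : ℕ} (h1 : chkQ A B Q = true) (h2 : chkD Q C E = true) :
    DD F (lv F (pl A)) (lv F (pl B)) *ᵥ lv F (pl C) = lv F (pl E) := by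
  rw [← del_dd, dd_eval h1, del_eval h2]

/-- the form -/
def om (A B : ℕ) : ℕ := ((W56.map fun s =>
  let o := lk OPN (s - 120)
  pa A s * (sn o * pa B (o / 2))).sum) % 5

theorem om_spec (A B : ℕ) : ((om A B : ℕ) : F) = sf F (lv F (pl A)) (lv F (pl B)) := by
  unfold om
  rw [castmod, sf_sum, Nat.cast_list_sum, List.map_map]
  rw [show (List.map (Nat.cast ∘ fun s => pa A s * (sn (lk OPN (s - 120)) * pa B (lk OPN (s - 120) / 2))) W56) =
    W56.map (fun s => ((pa A s * (sn (lk OPN (s - 120)) * pa B (lk OPN (s - 120) / 2)) : ℕ) : F)) from rfl,
    ← sumD1]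
  refine Finset.sum_congr rfl fun a _ => ?_
  obtain ⟨h5, h6⟩ := OPN_spec (F := F) a
  push_cast
  rw [sn_cast, h5, h6, lv_pl, lv_pl]

end five

end Cfsg.Agent.R2.PX.C
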