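import Cfsg.Agent.R2.PX.C.StdP

/-!
# Pattern X, Part C: the standard configuration, the span of the triple products (helper3)
-/

set_option autoImplicit false
set_option maxRecDepth 100000

namespace Cfsg.Agent.R2.PX.C

open Cfsg Cfsg.Lie Matrix
open Cfsg.Agent.R2.T1 Cfsg.Agent.R2.PX
open Cfsg.Agent.H943.E7V.Block (D1 rho)

universe u
variable {F : Type u} [Field F]

theorem C012 : chkL [1, 0, 2, 4, 0, 4, 0, 3, 2, 0, 4, 1, 1, 1, 0, 4, 0, 0, 0, 0, 4, 1, 1, 0, 4, 0, 0, 0]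
    (PL ++ T7) t012 = true := by decide +kernel

theorem C014 : chkL [3, 1, 2, 2, 4, 3, 1, 4, 2, 2, 2, 4, 0, 0, 1, 0, 2, 2, 4, 2, 2, 1, 0, 0, 0, 0, 1, 4]
    (PL ++ T7) t014 = true := by decide +kernel

theorem C016 : chkL [0, 0, 0, 0, 0, 0, 0, 0, 0, 0, 0, 0, 0, 0, 0, 0, 0, 0, 0, 0, 0, 1, 0, 0, 0, 0, 0, 0]
    (PL ++ T7) t016 = true := by decide +kernel

theorem C023 : chkL [1, 3, 0, 4, 0, 1, 1, 3, 1, 4, 1, 3, 1, 1, 0, 1, 0, 0, 2, 4, 1, 4, 0, 4, 2, 1, 1, 3]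
    (PL ++ T7) t023 = true := by decide +kernel

theorem C025 : chkL [0, 0, 0, 0, 0, 0, 0, 0, 0, 0, 0, 0, 0, 0, 0, 0, 0, 0, 0, 0, 0, 0, 0, 1, 0, 0, 0, 0]
    (PL ++ T7) t025 = true := by decide +kernel

theorem C027 : chkL [3, 3, 1, 1, 0, 0, 0, 4, 2, 3, 1, 3, 2, 1, 1, 4, 2, 2, 2, 3, 2, 0, 2, 0, 4, 4, 0, 1]
    (PL ++ T7) t027 = true := by decide +kernel

theorem C035 : chkL [1, 3, 4, 3, 0, 1, 2, 4, 2, 2, 0, 1, 4, 4, 2, 3, 1, 2, 1, 0, 3, 4, 3, 0, 3, 1, 2, 2]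
    (PL ++ T7) t035 = true := by decide +kernel

theorem C037 : chkL [3, 0, 1, 4, 0, 1, 2, 3, 4, 0, 1, 2, 0, 0, 1, 1, 0, 0, 3, 0, 1, 4, 0, 4, 2, 0, 2, 3]
    (PL ++ T7) t037 = true := by decide +kernel

theorem C046 : chkL [0, 0, 0, 0, 0, 0, 0, 0, 0, 0, 0, 0, 0, 0, 0, 0, 0, 0, 0, 0, 0, 0, 0, 0, 1, 0, 0, 0]
    (PL ++ T7) t046 = true := by decide +kernel

theorem C056 : chkL [2, 0, 0, 0, 0, 4, 0, 1, 1, 0, 0, 0, 4, 3, 1, 2, 0, 0, 4, 0, 1, 0, 4, 1, 1, 0, 0, 0]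
    (PL ++ T7) t056 = true := by decide +kernel

theorem C067 : chkL [3, 3, 3, 0, 0, 0, 0, 0, 2, 2, 2, 0, 0, 0, 0, 0, 1, 2, 2, 3, 3, 0, 1, 0, 0, 4, 0, 1]
    (PL ++ T7) t067 = true := by decide +kernel

theorem C124 : chkL [1, 3, 3, 4, 4, 2, 4, 0, 1, 1, 3, 3, 0, 0, 0, 3, 1, 1, 4, 1, 3, 2, 1, 1, 2, 0, 4, 2]
    (PL ++ T7) t124 = true := by decide +kernel

theorem C126 : chkL [3, 2, 1, 2, 0, 4, 3, 1, 1, 4, 2, 1, 1, 2, 4, 4, 4, 4, 0, 4, 1, 2, 1, 1, 2, 0, 3, 3]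
    (PL ++ T7) t126 = true := by decide +kernel

theorem C134 : chkL [2, 0, 1, 2, 4, 3, 1, 4, 3, 3, 3, 4, 0, 0, 1, 0, 2, 2, 4, 2, 2, 1, 4, 0, 0, 1, 1, 4]
    (PL ++ T7) t134 = true := by decide +kernel

theorem C136 : chkL [2, 4, 3, 0, 0, 0, 0, 0, 3, 1, 2, 0, 0, 0, 0, 0, 2, 1, 2, 0, 1, 1, 4, 0, 0, 1, 0, 0]
    (PL ++ T7) t136 = true := by decide +kernel

theorem C145 : chkL [0, 2, 1, 2, 0, 3, 0, 1, 0, 4, 2, 3, 0, 0, 3, 1, 4, 4, 4, 4, 2, 2, 4, 2, 3, 0, 0, 1]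
    (PL ++ T7) t145 = true := by decide +kernel

theorem C147 : chkL [1, 1, 4, 0, 0, 1, 0, 0, 3, 4, 2, 3, 0, 0, 0, 3, 0, 0, 0, 0, 3, 2, 1, 1, 2, 4, 0, 2]
    (PL ++ T7) t147 = true := by decide +kernel

theorem C157 : chkL [4, 1, 4, 0, 0, 3, 0, 3, 4, 4, 2, 3, 3, 4, 2, 4, 0, 4, 0, 1, 3, 2, 0, 2, 2, 4, 0, 2]
    (PL ++ T7) t157 = true := by decide +kernel

theorem C234 : chkL [0, 0, 0, 0, 0, 0, 0, 0, 0, 0, 0, 0, 0, 0, 0, 0, 0, 0, 0, 0, 0, 0, 0, 0, 0, 1, 0, 0]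
    (PL ++ T7) t234 = true := by decide +kernel

theorem C236 : chkL [3, 0, 1, 1, 0, 0, 4, 0, 2, 2, 0, 3, 1, 2, 4, 1, 0, 4, 3, 3, 4, 0, 0, 0, 0, 1, 4, 1]
    (PL ++ T7) t236 = true := by decide +kernel

theorem C245 : chkL [0, 1, 4, 2, 1, 0, 0, 3, 0, 2, 0, 2, 0, 0, 1, 0, 2, 2, 0, 2, 0, 1, 0, 2, 3, 0, 4, 2]
    (PL ++ T7) t245 = true := by decide +kernel

theorem C247 : chkL [1, 4, 2, 2, 0, 4, 3, 1, 3, 3, 0, 0, 1, 4, 0, 3, 3, 3, 1, 3, 1, 1, 2, 1, 2, 4, 4, 3]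
    (PL ++ T7) t247 = true := by decide +kernel

theorem C257 : chkL [3, 4, 2, 2, 4, 4, 4, 1, 0, 3, 0, 0, 0, 0, 1, 2, 3, 2, 1, 4, 1, 1, 1, 2, 2, 4, 4, 3]
    (PL ++ T7) t257 = true := by decide +kernel

theorem C345 : chkL [4, 3, 2, 0, 1, 1, 2, 2, 2, 4, 0, 0, 0, 0, 3, 3, 1, 3, 0, 2, 3, 0, 3, 1, 1, 1, 1, 4]
    (PL ++ T7) t345 = true := by decide +kernel

theorem C347 : chkL [0, 0, 0, 0, 0, 0, 0, 0, 0, 0, 0, 0, 0, 0, 0, 0, 0, 0, 0, 0, 0, 0, 0, 0, 0, 0, 1, 0]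
    (PL ++ T7) t347 = true := by decide +kernel

theorem C357 : chkL [1, 0, 0, 0, 4, 0, 1, 0, 2, 0, 0, 0, 3, 4, 2, 1, 0, 0, 2, 0, 3, 0, 4, 1, 0, 0, 1, 0]
    (PL ++ T7) t357 = true := by decide +kernel

theorem C456 : chkL [3, 4, 2, 3, 2, 4, 1, 3, 1, 3, 4, 0, 1, 4, 3, 1, 3, 3, 4, 3, 0, 1, 4, 2, 4, 0, 4, 2]
    (PL ++ T7) t456 = true := by decide +kernel

theorem C467 : chkL [4, 2, 0, 0, 0, 4, 2, 0, 4, 1, 4, 2, 0, 0, 3, 2, 1, 3, 1, 2, 0, 1, 1, 1, 3, 4, 4, 3]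
    (PL ++ T7) t467 = true := by decide +kernel


end Cfsg.Agent.R2.PX.C
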