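import Cfsg.Agent.R2.PX.C.StdP

/-!
# Pattern X, Part C: the standard configuration, the span of the triple products (helper3)
-/

set_option autoImplicit false
set_option maxRecDepth 100000

namespace Cfsg.Agent.R2.PX.C

open Cfsg Cfsg.Lie Matrix
open Cfsg.Agent.R2.T1 Cfsg.Agent.R2.PX
open Cfsg.Agent.H943.E7V.Block (D1 rho)

universe u
variable {F : Type u} [Field F]

theorem C013 : chkL [3, 3, 1, 2, 0, 0, 2, 2, 4, 2, 4, 1, 0, 0, 1, 1, 2, 2, 1, 1, 3, 0, 4, 4, 2, 1, 2, 2]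
    (PL ++ T7) t013 = true := by decide +kernel

theorem C015 : chkL [0, 1, 2, 2, 0, 4, 0, 3, 0, 2, 2, 4, 4, 4, 2, 1, 2, 2, 4, 2, 2, 1, 4, 1, 0, 0, 1, 4]
    (PL ++ T7) t015 = true := by decide +kernel

theorem C017 : chkL [3, 0, 3, 0, 1, 4, 2, 3, 2, 4, 3, 0, 0, 0, 1, 4, 4, 4, 1, 0, 4, 1, 1, 0, 4, 4, 1, 0]
    (PL ++ T7) t017 = true := by decide +kernel

theorem C024 : chkL [0, 0, 0, 0, 0, 0, 0, 0, 0, 0, 0, 0, 0, 0, 0, 0, 0, 0, 0, 0, 0, 0, 1, 0, 0, 0, 0, 0]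
    (PL ++ T7) t024 = true := by decide +kernel

theorem C026 : chkL [0, 4, 2, 1, 0, 0, 4, 0, 0, 3, 4, 3, 1, 2, 4, 1, 3, 3, 1, 3, 3, 0, 1, 0, 0, 0, 4, 1]
    (PL ++ T7) t026 = true := by decide +kernel

theorem C034 : chkL [2, 3, 4, 3, 0, 1, 2, 4, 2, 2, 0, 1, 0, 0, 1, 2, 1, 1, 0, 1, 4, 4, 4, 4, 3, 1, 2, 2]
    (PL ++ T7) t034 = true := by decide +kernel

theorem C036 : chkL [0, 3, 0, 4, 0, 1, 1, 4, 2, 0, 4, 2, 0, 0, 0, 2, 1, 0, 3, 4, 3, 4, 4, 4, 3, 1, 1, 3]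
    (PL ++ T7) t036 = true := by decide +kernel

theorem C045 : chkL [2, 4, 3, 0, 1, 1, 2, 2, 4, 3, 4, 0, 0, 0, 3, 3, 3, 3, 0, 3, 4, 0, 4, 1, 1, 0, 1, 4]
    (PL ++ T7) t045 = true := by decide +kernel

theorem C047 : chkL [3, 2, 1, 0, 0, 0, 0, 0, 2, 3, 4, 0, 0, 0, 0, 0, 4, 4, 1, 4, 0, 0, 1, 0, 0, 4, 1, 0]
    (PL ++ T7) t047 = true := by decide +kernel

theorem C057 : chkL [0, 2, 1, 0, 4, 0, 1, 0, 3, 3, 4, 0, 3, 4, 2, 1, 4, 3, 1, 0, 0, 0, 0, 1, 0, 4, 1, 0]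
    (PL ++ T7) t057 = true := by decide +kernel

theorem C123 : chkL [1, 0, 2, 4, 0, 4, 0, 3, 2, 0, 4, 1, 1, 1, 0, 4, 1, 1, 1, 0, 4, 1, 0, 0, 4, 1, 0, 0]
    (PL ++ T7) t123 = true := by decide +kernel

theorem C125 : chkL [3, 3, 3, 4, 0, 3, 3, 4, 1, 1, 3, 3, 0, 0, 0, 3, 1, 1, 4, 1, 3, 2, 0, 2, 2, 0, 4, 2]
    (PL ++ T7) t125 = true := by decide +kernel

theorem C127 : chkL [1, 2, 4, 2, 1, 3, 0, 4, 3, 4, 4, 1, 2, 1, 1, 2, 3, 3, 1, 4, 0, 2, 2, 1, 1, 4, 4, 3]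
    (PL ++ T7) t127 = true := by decide +kernel

theorem C135 : chkL [2, 0, 1, 2, 0, 4, 0, 3, 3, 3, 3, 4, 4, 4, 2, 1, 2, 3, 0, 1, 1, 1, 3, 1, 0, 1, 1, 4]
    (PL ++ T7) t135 = true := by decide +kernel

theorem C137 : chkL [0, 3, 2, 0, 1, 4, 2, 3, 0, 1, 4, 0, 0, 0, 1, 4, 1, 1, 2, 1, 4, 1, 0, 0, 4, 0, 1, 0]
    (PL ++ T7) t137 = true := by decide +kernel

theorem C146 : chkL [3, 3, 4, 0, 3, 3, 4, 1, 1, 1, 3, 3, 0, 0, 0, 3, 1, 1, 4, 1, 3, 2, 0, 1, 3, 0, 4, 2]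
    (PL ++ T7) t146 = true := by decide +kernel

theorem C156 : chkL [1, 3, 4, 0, 0, 3, 2, 1, 2, 1, 3, 3, 4, 3, 1, 0, 1, 1, 3, 1, 4, 2, 4, 2, 3, 0, 4, 2]
    (PL ++ T7) t156 = true := by decide +kernel

theorem C167 : chkL [1, 3, 3, 3, 2, 0, 1, 2, 3, 3, 0, 3, 0, 0, 0, 3, 2, 3, 1, 4, 1, 2, 1, 1, 2, 4, 4, 3]
    (PL ++ T7) t167 = true := by decide +kernel

theorem C235 : chkL [4, 0, 0, 0, 0, 0, 0, 0, 1, 0, 0, 0, 0, 0, 0, 0, 0, 1, 1, 4, 4, 0, 4, 1, 0, 1, 0, 0]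
    (PL ++ T7) t235 = true := by decide +kernel

theorem C237 : chkL [1, 2, 2, 1, 0, 0, 0, 4, 4, 4, 0, 3, 2, 1, 1, 4, 4, 4, 3, 4, 2, 0, 1, 0, 4, 0, 0, 1]
    (PL ++ T7) t237 = true := by decide +kernel

theorem C246 : chkL [3, 2, 1, 2, 0, 4, 3, 1, 1, 4, 2, 0, 4, 1, 4, 4, 4, 4, 0, 4, 1, 1, 1, 1, 3, 0, 3, 3]
    (PL ++ T7) t246 = true := by decide +kernel

theorem C256 : chkL [0, 2, 1, 2, 0, 3, 3, 2, 3, 4, 2, 0, 0, 0, 3, 0, 4, 4, 4, 4, 2, 1, 0, 2, 3, 0, 3, 3]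
    (PL ++ T7) t256 = true := by decide +kernel

theorem C267 : chkL [1, 0, 4, 2, 0, 4, 3, 1, 3, 3, 0, 3, 3, 3, 1, 0, 0, 1, 2, 2, 4, 1, 2, 1, 2, 4, 3, 4]
    (PL ++ T7) t267 = true := by decide +kernel

theorem C346 : chkL [2, 4, 3, 0, 0, 0, 0, 0, 3, 1, 2, 0, 0, 0, 0, 0, 1, 4, 1, 0, 1, 0, 4, 0, 1, 1, 0, 0]
    (PL ++ T7) t346 = true := by decide +kernel

theorem C356 : chkL [3, 4, 3, 0, 0, 4, 0, 1, 0, 1, 2, 0, 4, 3, 1, 2, 1, 1, 1, 3, 1, 0, 3, 1, 1, 1, 0, 0]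
    (PL ++ T7) t356 = true := by decide +kernel

theorem C367 : chkL [0, 0, 0, 0, 0, 0, 0, 0, 0, 0, 0, 0, 0, 0, 0, 0, 0, 0, 0, 0, 0, 0, 0, 0, 0, 0, 0, 1]
    (PL ++ T7) t367 = true := by decide +kernel

theorem C457 : chkL [1, 1, 3, 3, 0, 1, 0, 4, 3, 4, 0, 0, 4, 1, 2, 2, 2, 0, 2, 1, 1, 1, 0, 2, 3, 4, 0, 2]
    (PL ++ T7) t457 = true := by decide +kernel

theorem C567 : chkL [1, 2, 0, 0, 3, 2, 4, 2, 3, 1, 4, 2, 2, 2, 1, 0, 1, 1, 4, 4, 2, 1, 0, 2, 3, 4, 4, 3]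
    (PL ++ T7) t567 = true := by decide +kernel


end Cfsg.Agent.R2.PX.C
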