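import Cfsg.Agent.R2.PX.C.StdT0
import Cfsg.Agent.R2.PX.C.StdT1
import Cfsg.Agent.R2.PX.C.StdT2
import Cfsg.Agent.R2.PX.C.StdT3

/-!
# Pattern X, Part C: the standard configuration, the words `p` (helper3)
-/

set_option autoImplicit false
set_option maxRecDepth 100000

namespace Cfsg.Agent.R2.PX.C

open Cfsg Cfsg.Lie Matrix
open Cfsg.Agent.R2.T1 Cfsg.Agent.R2.PX
open Cfsg.Agent.H943.E7V.Block (D1 rho)

universe u
variable {F : Type u} [Field F]

/-- the word `p_{012345}` -/
def p0 : ℕ := 0x1132110312002120300200110024020020020020001103001000400003000000000400400020000300000000000400000000400000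

/-- the word `p_{012346}` -/
def p1 : ℕ := 0x4432140312003420200200440034020020030030001402004000400003000000000100100020000300000000000400000000100000

/-- the word `p_{012347}` -/
def p2 : ℕ := 0x24000343000030000300000001030030000000003000000000100002000000000000000030000200000000000100000000000000

/-- the word `p_{012435}` -/
def p3 : ℕ := 0x1304430220301430120400233033020011000010003304001000000002000000000100100020000300000000000400000000100000

/-- the word `p_{012436}` -/
def p4 : ℕ := 0x4204420220204130420400323023020014000040003201004000000002000000000400400020000300000000000400000000400000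

/-- the word `p_{012437}` -/
def p5 : ℕ := 0x30400022000020030100002002030000000000004000000000000003000000000000000030000200000000000100000000000000

/-- the word `p_{012536}` -/
def p6 : ℕ := 0x4433240322003420210400444031010000030030001402004000300004000000000100100030000200000000000100000000100000

/-- the word `p_{012537}` -/
def p7 : ℕ := 0x2010320044100410310200104030020002020040003201003000300001000000000100100010000400000000000200000000100000

/-- the word `p_{021345}` -/
def p8 : ℕ := 0x20220100000000130002300110340000011022010021020010001304000000200003000000000400000020000000000400000400001000400000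

/-- the word `p_{021346}` -/
def p9 : ℕ := 0x20330100000000120002200410240000041032010024030040001201000000200003000000000100000020000000000400000400004000100000

/-- the word `p_{021347}` -/
def p10 : ℕ := 0x430000440000000000003000040010000004003040030000000003000000000300002000000000000000030000000000100000100000000000000

/-- the word `p_{021435}` -/
def p11 : ℕ := 0x411123200000000410000000420110000034031010010030040003101000000200003000000000000100010000100000300000000001000000000

/-- the word `p_{021436}` -/
def p12 : ℕ := 0x414432200000000440000000120410000024021010010020010003404000000200003000000000000400010000100000300000000004000000000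

/-- the word `p_{021437}` -/
def p13 : ℕ := 0x100000240000000400002000030040000001004040000000000004000000000300002000000000000000040000400000200000000000000000000

/-- the word `p_{021536}` -/
def p14 : ℕ := 0x300330210000000220002200430220000043033040004030040001201000000300002000000000100000040000300000300000100004000100000

/-- the word `p_{021537}` -/
def p15 : ℕ := 0x204042430000000300004300430330000002034030001030040003001000000100004000000000400200010000300000400000400003000400000

/-- the word `p_{031425}` -/
def p16 : ℕ := 0x44212340002020240120000420010300124031040020000010002404001000300000000000000000200000000000000000000000002000000000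

/-- the word `p_{031426}` -/
def p17 : ℕ := 0x41343340003020210120000120010300434021040020000040002101004000300000000000000000300000000000000000000000003000000000

/-- the word `p_{031427}` -/
def p18 : ℕ := 0x440000010000010100310000030040200001004010010000000001000000000200000000000000000000000000000000000000000000000000000

/-- the word `p_{031526}` -/
def p19 : ℕ := 0x140330030001132130400202010020200103004010014000010001304001000200000000000000000400000000200000400000000004000000000

/-- the word `p_{031527}` -/
def p20 : ℕ := 0x331403020001321200220301130030400232024020021000010002004001000400000000000000000000000000000000000000000000000000000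

/-- the words -/
def PL : List ℕ := [p0, p1, p2, p3, p4, p5, p6, p7, p8, p9, p10, p11, p12, p13, p14, p15, p16, p17, p18, p19, p20]

/-- the triple products which complete the basis -/
def T7 : List ℕ := [t016, t024, t025, t046, t234, t347, t367]

/-- all the triple products -/
def TA : List ℕ := [t012, t013, t014, t015, t016, t017, t023, t024, t025, t026, t027, t034, t035, t036, t037, t045, t046, t047,
  t056, t057, t067, t123, t124, t125, t126, t127, t134, t135, t136, t137, t145, t146, t147, t156, t157, t167,
  t234, t235, t236, t237, t245, t246, t247, t256, t257, t267, t345, t346, t347, t356, t357, t367, t456, t457,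
  t467, t567]

theorem P0 : chkL [1, 4, 4, 1, 4, 1, 1, 4] [t024, t025, t034, t035, t124, t125, t134, t135] p0 = true := by decide +kernel

theorem P1 : chkL [1, 4, 4, 1, 4, 1, 1, 4] [t024, t026, t034, t036, t124, t126, t134, t136] p1 = true := by decide +kernel

theorem P2 : chkL [1, 4, 4, 1, 4, 1, 1, 4] [t024, t027, t034, t037, t124, t127, t134, t137] p2 = true := by decide +kernel

theorem P3 : chkL [1, 4, 4, 1, 4, 1, 1, 4] [t023, t025, t034, t045, t123, t125, t134, t145] p3 = true := by decide +kernel

theorem P4 : chkL [1, 4, 4, 1, 4, 1, 1, 4] [t023, t026, t034, t046, t123, t126, t134, t146] p4 = true := by decide +kernel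

theorem P5 : chkL [1, 4, 4, 1, 4, 1, 1, 4] [t023, t027, t034, t047, t123, t127, t134, t147] p5 = true := by decide +kernel

theorem P6 : chkL [1, 4, 4, 1, 4, 1, 1, 4] [t023, t026, t035, t056, t123, t126, t135, t156] p6 = true := by decide +kernel

theorem P7 : chkL [1, 4, 4, 1, 4, 1, 1, 4] [t023, t027, t035, t057, t123, t127, t135, t157] p7 = true := by decide +kernel

theorem P8 : chkL [1, 4, 4, 1, 4, 1, 1, 4] [t014, t015, t034, t035, t124, t125, t234, t235] p8 = true := by decide +kernel

theorem P9 : chkL [1, 4, 4, 1, 4, 1, 1, 4] [t014, t016, t034, t036, t124, t126, t234, t236] p9 = true := by decide +kernel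

theorem P10 : chkL [1, 4, 4, 1, 4, 1, 1, 4] [t014, t017, t034, t037, t124, t127, t234, t237] p10 = true := by decide +kernel

theorem P11 : chkL [1, 4, 4, 1, 4, 1, 1, 4] [t013, t015, t034, t045, t123, t125, t234, t245] p11 = true := by decide +kernel

theorem P12 : chkL [1, 4, 4, 1, 4, 1, 1, 4] [t013, t016, t034, t046, t123, t126, t234, t246] p12 = true := by decide +kernel

theorem P13 : chkL [1, 4, 4, 1, 4, 1, 1, 4] [t013, t017, t034, t047, t123, t127, t234, t247] p13 = true := by decide +kernel

theorem P14 : chkL [1, 4, 4, 1, 4, 1, 1, 4] [t013, t016, t035, t056, t123, t126, t235, t256] p14 = true := by decide +kernel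

theorem P15 : chkL [1, 4, 4, 1, 4, 1, 1, 4] [t013, t017, t035, t057, t123, t127, t235, t257] p15 = true := by decide +kernel

theorem P16 : chkL [1, 4, 4, 1, 4, 1, 1, 4] [t012, t015, t024, t045, t123, t135, t234, t345] p16 = true := by decide +kernel

theorem P17 : chkL [1, 4, 4, 1, 4, 1, 1, 4] [t012, t016, t024, t046, t123, t136, t234, t346] p17 = true := by decide +kernel

theorem P18 : chkL [1, 4, 4, 1, 4, 1, 1, 4] [t012, t017, t024, t047, t123, t137, t234, t347] p18 = true := by decide +kernel

theorem P19 : chkL [1, 4, 4, 1, 4, 1, 1, 4] [t012, t016, t025, t056, t123, t136, t235, t356] p19 = true := by decide +kernel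

theorem P20 : chkL [1, 4, 4, 1, 4, 1, 1, 4] [t012, t017, t025, t057, t123, t137, t235, t357] p20 = true := by decide +kernel

theorem perpP : (UL.all fun x => PL.all fun y => Nat.beq (om x y) 0) = true := by decide +kernel

/-- the Gram matrix -/
def MM : List (List ℕ) := [[0, 0, 0, 0, 1, 1, 1], [0, 1, 1, 1, 1, 1, 1], [1, 0, 0, 1, 0, 1, 1], [1, 1, 1, 1, 0, 0, 0], [1, 0, 1, 0, 0,
  0, 1], [1, 1, 0, 1, 1, 1, 1], [0, 1, 1, 0, 1, 1, 0]]

theorem MM_eq : (MM == (UL.take 7).map fun x => T7.map fun y => om x y) = true := by decide +kernel


end Cfsg.Agent.R2.PX.C
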