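import Cfsg.Agent.R2.PX.C.StdA

/-!
# Pattern X, Part C: the standard configuration, the three-cycle (0 1 2) (helper3)
-/

set_option autoImplicit false
set_option maxRecDepth 100000

namespace Cfsg.Agent.R2.PX.C

open Cfsg Cfsg.Lie Matrix
open Cfsg.Agent.R2.T1 Cfsg.Agent.R2.PX
open Cfsg.Agent.H943.E7V.Block (D1 rho)

universe u
variable {F : Type u} [Field F]

/-- the word -/
def wR0 : List (ℕ × ℕ) := [(67, 4), (88, 4), (37, 1), (58, 1), (109, 4), (16, 1), (22, 3), (66, 2), (47, 1), (93, 4), (32, 1), (73, 2),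
  (78, 4), (87, 3), (93, 4), (103, 3), (104, 1), (106, 3), (109, 4), (110, 3), (112, 3)]

/-- the compiled word -/
def cR0 : List (ℕ × List (ℕ × ℕ)) := [
  (4, [(129, 245), (160, 310), (182, 354), (192, 374), (201, 393), (203, 398), (211, 413), (213, 418), (218, 433),
  (223, 443), (230, 457), (237, 470)]),
  (4, [(155, 245), (160, 258), (198, 336), (208, 346), (215, 361), (217, 366), (220, 381), (222, 386), (224, 405),
  (225, 425), (235, 457), (237, 460)]),
  (1, [(122, 311), (129, 320), (168, 396), (173, 416), (180, 431), (183, 434), (190, 441), (193, 444), (202, 449),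
  (212, 451), (228, 471), (230, 474)]),
  (1, [(122, 259), (155, 320), (177, 364), (187, 384), (196, 403), (199, 406), (206, 423), (209, 426), (216, 437),
  (221, 447), (228, 461), (235, 474)]),
  (4, [(187, 251), (190, 258), (196, 269), (206, 292), (220, 321), (221, 323), (227, 364), (228, 366), (232, 407),
  (234, 427), (235, 435), (236, 437)]),
  (1, [(125, 375), (129, 380), (134, 393), (146, 412), (160, 441), (161, 443), (182, 454), (183, 456), (203, 465),
  (213, 469), (217, 471), (218, 473)]),
  (3, [(125, 355), (129, 360), (140, 393), (151, 413), (160, 431), (161, 433), (192, 455), (193, 457), (203, 463),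
  (213, 467), (222, 470), (223, 472)]),
  (2, [(129, 251), (158, 310), (180, 354), (190, 374), (201, 396), (202, 398), (211, 416), (212, 418), (218, 434),
  (223, 444), (230, 458), (236, 470)]),
  (1, [(134, 293), (140, 302), (168, 346), (196, 412), (198, 416), (199, 418), (201, 422), (202, 424), (203, 426),
  (224, 450), (231, 466), (232, 468)]),
  (4, [(168, 281), (173, 303), (177, 311), (180, 317), (182, 321), (183, 323), (227, 440), (228, 442), (229, 444),
  (230, 446), (231, 448), (233, 450)]),
  (1, [(140, 337), (151, 347), (155, 355), (158, 361), (160, 365), (161, 367), (220, 454), (221, 456), (222, 458),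
  (223, 460), (224, 462), (225, 466)]),
  (2, [(140, 269), (151, 292), (187, 354), (190, 360), (192, 364), (193, 366), (220, 430), (221, 432), (222, 434),
  (223, 436), (232, 462), (234, 466)]),
  (4, [(146, 269), (151, 280), (173, 336), (206, 392), (208, 396), (209, 398), (211, 402), (212, 404), (213, 406),
  (225, 448), (233, 462), (234, 464)]),
  (3, [(155, 251), (158, 258), (196, 336), (206, 346), (215, 364), (216, 366), (220, 384), (221, 386), (224, 406),
  (225, 426), (235, 458), (236, 460)]),
  (4, [(168, 281), (173, 303), (177, 311), (180, 317), (182, 321), (183, 323), (227, 440), (228, 442), (229, 444),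
  (230, 446), (231, 448), (233, 450)]),
  (3, [(177, 251), (180, 258), (196, 281), (206, 303), (215, 321), (216, 323), (227, 385), (228, 387), (231, 407),
  (233, 427), (235, 444), (236, 446)]),
  (1, [(177, 245), (182, 258), (198, 281), (208, 303), (215, 316), (217, 323), (227, 380), (229, 387), (231, 404),
  (233, 424), (235, 443), (237, 446)]),
  (3, [(180, 245), (182, 250), (201, 281), (211, 303), (215, 311), (218, 323), (227, 375), (230, 387), (231, 399),
  (233, 419), (236, 443), (237, 445)]),
  (4, [(187, 251), (190, 258), (196, 269), (206, 292), (220, 321), (221, 323), (227, 364), (228, 366), (232, 407),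
  (234, 427), (235, 435), (236, 437)]),
  (3, [(187, 245), (192, 258), (198, 269), (208, 292), (220, 316), (222, 323), (227, 361), (229, 366), (232, 404),
  (234, 424), (235, 432), (237, 437)]),
  (3, [(190, 245), (192, 250), (201, 269), (211, 292), (220, 311), (223, 323), (227, 354), (230, 366), (232, 399),
  (234, 419), (236, 432), (237, 434)])]

/-- the exponents of the element of the torus -/
def eR0 : List ℤ := [0, 2, 3, 0, 1, 2, 0]

/-- the compiled element of the torus -/
def dR0 : List (ℕ × ℕ) := [(120, 1), (122, 4), (125, 2), (129, 2), (134, 3), (140, 2), (146, 3), (151, 2), (155, 3), (158, 3), (160, 4),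
  (161, 1), (168, 4), (173, 4), (177, 1), (180, 1), (182, 3), (183, 2), (187, 4), (190, 4), (192, 2), (193, 3),
  (196, 1), (198, 3), (199, 2), (201, 3), (202, 2), (203, 1), (206, 1), (208, 3), (209, 2), (211, 3), (212, 2),
  (213, 1), (215, 2), (216, 3), (217, 4), (218, 4), (220, 3), (221, 2), (222, 1), (223, 1), (224, 4), (225, 4),
  (227, 1), (228, 4), (229, 2), (230, 2), (231, 3), (232, 2), (233, 3), (234, 2), (235, 3), (236, 3), (237, 4),
  (238, 1)]

theorem okwR0 : okw wR0 cR0 = true := by decide +kernel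

theorem oktR0 : okt eR0 dR0 = true := by decide +kernel

theorem actR0 : Nat.beq (cw cR0 (upg ft u0 dR0)) u1 = true ∧
    Nat.beq (cw cR0 (upg ft u1 dR0)) u2 = true ∧
    Nat.beq (cw cR0 (upg ft u2 dR0)) u0 = true ∧
    Nat.beq (cw cR0 (upg ft u3 dR0)) u3 = true ∧
    Nat.beq (cw cR0 (upg ft u4 dR0)) u4 = true ∧
    Nat.beq (cw cR0 (upg ft u5 dR0)) u5 = true ∧
    Nat.beq (cw cR0 (upg ft u6 dR0)) u6 = true ∧
    Nat.beq (cw cR0 (upg ft u7 dR0)) u7 = true := by
  refine ⟨?_, ?_, ?_, ?_, ?_, ?_, ?_, ?_⟩ <;> decide +kernel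

/-- the element -/
noncomputable def gR0 (F : Type u) [Field F] [CharP F 5] : Gh F := gw F wR0 * tor F eR0

theorem gR0_act [CharP F 5] (j : Fin 8) : V F (gR0 F) (uv F j) = uv F ((Equiv.swap (0 : Fin 8) 1 * Equiv.swap (1 : Fin 8) 2 : Equiv.Perm (Fin 8)) j) := by
  have h : ∀ j : Fin 8, (Equiv.swap (0 : Fin 8) 1 * Equiv.swap (1 : Fin 8) 2 : Equiv.Perm (Fin 8)) j = ![1, 2, 0, 3, 4, 5, 6, 7] j := by decide
  rw [h]
  obtain ⟨h0, h1, h2, h3, h4, h5, h6, h7⟩ := actR0
  fin_cases j
  · exact V_wt okwR0 oktR0 h0
  · exact V_wt okwR0 oktR0 h1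
  · exact V_wt okwR0 oktR0 h2
  · exact V_wt okwR0 oktR0 h3
  · exact V_wt okwR0 oktR0 h4
  · exact V_wt okwR0 oktR0 h5
  · exact V_wt okwR0 oktR0 h6
  · exact V_wt okwR0 oktR0 h7

end Cfsg.Agent.R2.PX.C
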