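import Cfsg.Agent.R2.PX.C.StdA

/-!
# Pattern X, Part C: the standard configuration, the three-cycle (1 2 3) (helper3)
-/

set_option autoImplicit false
set_option maxRecDepth 100000

namespace Cfsg.Agent.R2.PX.C

open Cfsg Cfsg.Lie Matrix
open Cfsg.Agent.R2.T1 Cfsg.Agent.R2.PX
open Cfsg.Agent.H943.E7V.Block (D1 rho)

universe u
variable {F : Type u} [Field F]

/-- the word -/
def wR1 : List (ℕ × ℕ) := [(35, 4), (61, 1), (16, 4), (22, 3), (38, 3), (59, 1), (66, 3), (31, 4), (47, 4), (52, 4), (72, 2), (32, 1),
  (73, 2), (77, 1), (78, 2), (82, 1), (86, 4), (87, 1), (93, 1), (102, 1), (109, 4), (116, 2)]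

/-- the compiled word -/
def cR1 : List (ℕ × List (ℕ × ℕ)) := [
  (4, [(122, 317), (125, 320), (168, 402), (173, 422), (177, 430), (183, 436), (187, 440), (193, 446), (199, 448),
  (209, 450), (228, 473), (229, 475)]),
  (1, [(122, 251), (158, 320), (180, 364), (190, 384), (196, 396), (202, 406), (206, 416), (212, 426), (216, 434),
  (221, 444), (228, 458), (236, 474)]),
  (4, [(125, 375), (129, 380), (134, 393), (146, 412), (160, 441), (161, 443), (182, 454), (183, 456), (203, 465),
  (213, 469), (217, 471), (218, 473)]),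
  (3, [(125, 355), (129, 360), (140, 393), (151, 413), (160, 431), (161, 433), (192, 455), (193, 457), (203, 463),
  (213, 467), (222, 470), (223, 472)]),
  (3, [(125, 311), (129, 316), (168, 392), (173, 412), (182, 430), (183, 432), (192, 440), (193, 442), (203, 448),
  (213, 450), (229, 470), (230, 472)]),
  (1, [(125, 259), (155, 316), (177, 360), (187, 380), (198, 402), (199, 404), (208, 422), (209, 424), (217, 436),
  (222, 446), (229, 460), (235, 472)]),
  (3, [(129, 251), (158, 310), (180, 354), (190, 374), (201, 396), (202, 398), (211, 416), (212, 418), (218, 434),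
  (223, 444), (230, 458), (236, 470)]),
  (4, [(134, 337), (146, 346), (155, 375), (158, 381), (160, 385), (161, 387), (215, 455), (216, 457), (217, 459),
  (218, 461), (224, 464), (225, 468)]),
  (4, [(134, 293), (140, 302), (168, 346), (196, 412), (198, 416), (199, 418), (201, 422), (202, 424), (203, 426),
  (224, 450), (231, 466), (232, 468)]),
  (4, [(134, 281), (146, 302), (177, 374), (180, 380), (182, 384), (183, 386), (215, 440), (216, 442), (217, 444),
  (218, 446), (231, 464), (233, 468)]),
  (2, [(134, 241), (161, 302), (183, 346), (199, 375), (202, 381), (203, 385), (216, 412), (217, 416), (218, 422),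
  (224, 441), (231, 455), (238, 468)]),
  (1, [(140, 337), (151, 347), (155, 355), (158, 361), (160, 365), (161, 367), (220, 454), (221, 456), (222, 458),
  (223, 460), (224, 462), (225, 466)]),
  (2, [(140, 269), (151, 292), (187, 354), (190, 360), (192, 364), (193, 366), (220, 430), (221, 432), (222, 434),
  (223, 436), (232, 462), (234, 466)]),
  (1, [(140, 241), (161, 292), (193, 347), (199, 355), (202, 361), (203, 365), (221, 413), (222, 417), (223, 423),
  (224, 431), (232, 454), (238, 466)]),
  (2, [(146, 269), (151, 280), (173, 336), (206, 392), (208, 396), (209, 398), (211, 402), (212, 404), (213, 406),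
  (225, 448), (233, 462), (234, 464)]),
  (1, [(146, 241), (161, 280), (183, 336), (209, 374), (212, 380), (213, 384), (216, 392), (217, 396), (218, 402),
  (225, 440), (233, 454), (238, 464)]),
  (4, [(151, 241), (161, 268), (193, 336), (209, 355), (212, 361), (213, 365), (221, 392), (222, 396), (223, 402),
  (225, 431), (234, 454), (238, 463)]),
  (1, [(155, 251), (158, 258), (196, 336), (206, 346), (215, 364), (216, 366), (220, 384), (221, 386), (224, 406),
  (225, 426), (235, 458), (236, 460)]),
  (1, [(168, 281), (173, 303), (177, 311), (180, 317), (182, 321), (183, 323), (227, 440), (228, 442), (229, 444),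
  (230, 446), (231, 448), (233, 450)]),
  (1, [(173, 241), (183, 268), (193, 281), (209, 310), (212, 316), (213, 320), (228, 393), (229, 397), (230, 403),
  (233, 430), (234, 440), (238, 449)]),
  (4, [(187, 251), (190, 258), (196, 269), (206, 292), (220, 321), (221, 323), (227, 364), (228, 366), (232, 407),
  (234, 427), (235, 435), (236, 437)]),
  (2, [(196, 241), (199, 250), (202, 259), (216, 292), (221, 302), (224, 320), (228, 347), (231, 365), (232, 385),
  (235, 416), (236, 422), (238, 427)])]

/-- the exponents of the element of the torus -/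
def eR1 : List ℤ := [0, 0, 2, 2, 0, 0, 0]

/-- the compiled element of the torus -/
def dR1 : List (ℕ × ℕ) := [(120, 1), (122, 1), (125, 1), (129, 4), (134, 1), (140, 4), (146, 4), (151, 1), (155, 4), (158, 1), (160, 1),
  (161, 1), (168, 1), (173, 4), (177, 1), (180, 4), (182, 4), (183, 4), (187, 4), (190, 1), (192, 1), (193, 1),
  (196, 4), (198, 4), (199, 4), (201, 1), (202, 1), (203, 1), (206, 1), (208, 1), (209, 1), (211, 4), (212, 4),
  (213, 4), (215, 1), (216, 1), (217, 1), (218, 4), (220, 4), (221, 4), (222, 4), (223, 1), (224, 4), (225, 1),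
  (227, 1), (228, 1), (229, 1), (230, 4), (231, 1), (232, 4), (233, 4), (234, 1), (235, 4), (236, 1), (237, 1),
  (238, 1)]

theorem okwR1 : okw wR1 cR1 = true := by decide +kernel

theorem oktR1 : okt eR1 dR1 = true := by decide +kernel

theorem actR1 : Nat.beq (cw cR1 (upg ft u0 dR1)) u0 = true ∧
    Nat.beq (cw cR1 (upg ft u1 dR1)) u2 = true ∧
    Nat.beq (cw cR1 (upg ft u2 dR1)) u3 = true ∧
    Nat.beq (cw cR1 (upg ft u3 dR1)) u1 = true ∧
    Nat.beq (cw cR1 (upg ft u4 dR1)) u4 = true ∧
    Nat.beq (cw cR1 (upg ft u5 dR1)) u5 = true ∧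
    Nat.beq (cw cR1 (upg ft u6 dR1)) u6 = true ∧
    Nat.beq (cw cR1 (upg ft u7 dR1)) u7 = true := by
  refine ⟨?_, ?_, ?_, ?_, ?_, ?_, ?_, ?_⟩ <;> decide +kernel

/-- the element -/
noncomputable def gR1 (F : Type u) [Field F] [CharP F 5] : Gh F := gw F wR1 * tor F eR1

theorem gR1_act [CharP F 5] (j : Fin 8) : V F (gR1 F) (uv F j) = uv F ((Equiv.swap (1 : Fin 8) 2 * Equiv.swap (2 : Fin 8) 3 : Equiv.Perm (Fin 8)) j) := by
  have h : ∀ j : Fin 8, (Equiv.swap (1 : Fin 8) 2 * Equiv.swap (2 : Fin 8) 3 : Equiv.Perm (Fin 8)) j = ![0, 2, 3, 1, 4, 5, 6, 7] j := by decide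
  rw [h]
  obtain ⟨h0, h1, h2, h3, h4, h5, h6, h7⟩ := actR1
  fin_cases j
  · exact V_wt okwR1 oktR1 h0
  · exact V_wt okwR1 oktR1 h1
  · exact V_wt okwR1 oktR1 h2
  · exact V_wt okwR1 oktR1 h3
  · exact V_wt okwR1 oktR1 h4
  · exact V_wt okwR1 oktR1 h5
  · exact V_wt okwR1 oktR1 h6
  · exact V_wt okwR1 oktR1 h7

end Cfsg.Agent.R2.PX.C
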