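import Cfsg.Agent.R2.PX.C.StdA

/-!
# Pattern X, Part C: the standard configuration, the three-cycle (2 3 4) (helper3)
-/

set_option autoImplicit false
set_option maxRecDepth 100000

namespace Cfsg.Agent.R2.PX.C

open Cfsg Cfsg.Lie Matrix
open Cfsg.Agent.R2.T1 Cfsg.Agent.R2.PX
open Cfsg.Agent.H943.E7V.Block (D1 rho)

universe u
variable {F : Type u} [Field F]

/-- the word -/
def wR2 : List (ℕ × ℕ) := [(15, 1), (19, 1), (16, 4), (22, 3), (38, 3), (59, 4), (66, 3), (47, 1), (72, 3), (32, 1), (77, 4), (78, 2),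
  (86, 1), (87, 1)]

/-- the compiled word -/
def cR2 : List (ℕ × List (ℕ × ℕ)) := [
  (1, [(122, 375), (129, 384), (134, 397), (146, 416), (158, 440), (161, 445), (180, 455), (183, 458), (202, 464),
  (212, 468), (216, 470), (218, 475)]),
  (1, [(122, 361), (125, 364), (140, 403), (151, 423), (155, 431), (161, 437), (187, 455), (193, 461), (199, 463),
  (209, 467), (221, 473), (222, 475)]),
  (4, [(125, 375), (129, 380), (134, 393), (146, 412), (160, 441), (161, 443), (182, 454), (183, 456), (203, 465),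
  (213, 469), (217, 471), (218, 473)]),
  (3, [(125, 355), (129, 360), (140, 393), (151, 413), (160, 431), (161, 433), (192, 455), (193, 457), (203, 463),
  (213, 467), (222, 470), (223, 472)]),
  (3, [(125, 311), (129, 316), (168, 392), (173, 412), (182, 430), (183, 432), (192, 440), (193, 442), (203, 448),
  (213, 450), (229, 470), (230, 472)]),
  (4, [(125, 259), (155, 316), (177, 360), (187, 380), (198, 402), (199, 404), (208, 422), (209, 424), (217, 436),
  (222, 446), (229, 460), (235, 472)]),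
  (3, [(129, 251), (158, 310), (180, 354), (190, 374), (201, 396), (202, 398), (211, 416), (212, 418), (218, 434),
  (223, 444), (230, 458), (236, 470)]),
  (1, [(134, 293), (140, 302), (168, 346), (196, 412), (198, 416), (199, 418), (201, 422), (202, 424), (203, 426),
  (224, 450), (231, 466), (232, 468)]),
  (3, [(134, 241), (161, 302), (183, 346), (199, 375), (202, 381), (203, 385), (216, 412), (217, 416), (218, 422),
  (224, 441), (231, 455), (238, 468)]),
  (1, [(140, 337), (151, 347), (155, 355), (158, 361), (160, 365), (161, 367), (220, 454), (221, 456), (222, 458),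
  (223, 460), (224, 462), (225, 466)]),
  (4, [(140, 241), (161, 292), (193, 347), (199, 355), (202, 361), (203, 365), (221, 413), (222, 417), (223, 423),
  (224, 431), (232, 454), (238, 466)]),
  (2, [(146, 269), (151, 280), (173, 336), (206, 392), (208, 396), (209, 398), (211, 402), (212, 404), (213, 406),
  (225, 448), (233, 462), (234, 464)]),
  (1, [(151, 241), (161, 268), (193, 336), (209, 355), (212, 361), (213, 365), (221, 392), (222, 396), (223, 402),
  (225, 431), (234, 454), (238, 463)]),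
  (1, [(155, 251), (158, 258), (196, 336), (206, 346), (215, 364), (216, 366), (220, 384), (221, 386), (224, 406),
  (225, 426), (235, 458), (236, 460)])]

/-- the exponents of the element of the torus -/
def eR2 : List ℤ := [0, 1, 1, 2, 1, 0, 0]

/-- the compiled element of the torus -/
def dR2 : List (ℕ × ℕ) := [(120, 1), (122, 1), (125, 3), (129, 3), (134, 1), (140, 1), (146, 1), (151, 1), (155, 2), (158, 2), (160, 1),
  (161, 1), (168, 3), (173, 3), (177, 1), (180, 1), (182, 3), (183, 3), (187, 1), (190, 1), (192, 3), (193, 3),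
  (196, 2), (198, 1), (199, 1), (201, 1), (202, 1), (203, 3), (206, 2), (208, 1), (209, 1), (211, 1), (212, 1),
  (213, 3), (215, 2), (216, 2), (217, 1), (218, 1), (220, 2), (221, 2), (222, 1), (223, 1), (224, 2), (225, 2),
  (227, 1), (228, 1), (229, 3), (230, 3), (231, 1), (232, 1), (233, 1), (234, 1), (235, 2), (236, 2), (237, 1),
  (238, 1)]

theorem okwR2 : okw wR2 cR2 = true := by decide +kernel

theorem oktR2 : okt eR2 dR2 = true := by decide +kernel

theorem actR2 : Nat.beq (cw cR2 (upg ft u0 dR2)) u0 = true ∧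
    Nat.beq (cw cR2 (upg ft u1 dR2)) u1 = true ∧
    Nat.beq (cw cR2 (upg ft u2 dR2)) u3 = true ∧
    Nat.beq (cw cR2 (upg ft u3 dR2)) u4 = true ∧
    Nat.beq (cw cR2 (upg ft u4 dR2)) u2 = true ∧
    Nat.beq (cw cR2 (upg ft u5 dR2)) u5 = true ∧
    Nat.beq (cw cR2 (upg ft u6 dR2)) u6 = true ∧
    Nat.beq (cw cR2 (upg ft u7 dR2)) u7 = true := by
  refine ⟨?_, ?_, ?_, ?_, ?_, ?_, ?_, ?_⟩ <;> decide +kernel

/-- the element -/
noncomputable def gR2 (F : Type u) [Field F] [CharP F 5] : Gh F := gw F wR2 * tor F eR2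

theorem gR2_act [CharP F 5] (j : Fin 8) : V F (gR2 F) (uv F j) = uv F ((Equiv.swap (2 : Fin 8) 3 * Equiv.swap (3 : Fin 8) 4 : Equiv.Perm (Fin 8)) j) := by
  have h : ∀ j : Fin 8, (Equiv.swap (2 : Fin 8) 3 * Equiv.swap (3 : Fin 8) 4 : Equiv.Perm (Fin 8)) j = ![0, 1, 3, 4, 2, 5, 6, 7] j := by decide
  rw [h]
  obtain ⟨h0, h1, h2, h3, h4, h5, h6, h7⟩ := actR2
  fin_cases j
  · exact V_wt okwR2 oktR2 h0
  · exact V_wt okwR2 oktR2 h1
  · exact V_wt okwR2 oktR2 h2
  · exact V_wt okwR2 oktR2 h3
  · exact V_wt okwR2 oktR2 h4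
  · exact V_wt okwR2 oktR2 h5
  · exact V_wt okwR2 oktR2 h6
  · exact V_wt okwR2 oktR2 h7

end Cfsg.Agent.R2.PX.C
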