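import Cfsg.Agent.R2.PX.C.StdA

/-!
# Pattern X, Part C: the standard configuration, the three-cycle (3 4 5) (helper3)
-/

set_option autoImplicit false
set_option maxRecDepth 100000

namespace Cfsg.Agent.R2.PX.C

open Cfsg Cfsg.Lie Matrix
open Cfsg.Agent.R2.T1 Cfsg.Agent.R2.PX
open Cfsg.Agent.H943.E7V.Block (D1 rho)

universe u
variable {F : Type u} [Field F]

/-- the word -/
def wR3 : List (ℕ × ℕ) := [(41, 2), (45, 4), (50, 4), (55, 3), (59, 4), (42, 1), (46, 4), (51, 2), (66, 2), (47, 2), (52, 3), (69, 4),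
  (70, 1), (73, 3), (74, 2), (75, 2), (78, 2), (79, 1), (80, 1), (83, 1), (84, 2)]

/-- the compiled word -/
def cR3 : List (ℕ × List (ℕ × ℕ)) := [
  (2, [(125, 303), (134, 316), (168, 380), (177, 413), (182, 422), (183, 424), (198, 441), (199, 443), (203, 446),
  (217, 451), (229, 468), (231, 473)]),
  (4, [(125, 293), (140, 316), (168, 360), (187, 412), (192, 423), (193, 425), (198, 431), (199, 433), (203, 436),
  (222, 450), (229, 466), (232, 472)]),
  (4, [(125, 281), (146, 316), (173, 381), (177, 393), (182, 402), (183, 404), (208, 440), (209, 442), (213, 447),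
  (217, 449), (229, 464), (233, 472)]),
  (3, [(125, 269), (151, 316), (173, 360), (187, 393), (192, 402), (193, 404), (208, 431), (209, 433), (213, 436),
  (222, 449), (229, 463), (234, 472)]),
  (4, [(125, 259), (155, 316), (177, 360), (187, 380), (198, 402), (199, 404), (208, 422), (209, 424), (217, 436),
  (222, 446), (229, 460), (235, 472)]),
  (1, [(129, 303), (134, 310), (168, 374), (180, 412), (182, 416), (183, 418), (201, 440), (202, 442), (203, 444),
  (218, 450), (230, 469), (231, 471)]),
  (4, [(129, 293), (140, 310), (168, 354), (190, 413), (192, 417), (193, 419), (201, 430), (202, 432), (203, 434),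
  (223, 451), (230, 467), (232, 470)]),
  (2, [(129, 281), (146, 310), (173, 375), (180, 392), (182, 396), (183, 398), (211, 441), (212, 443), (213, 445),
  (218, 448), (230, 465), (233, 470)]),
  (2, [(129, 251), (158, 310), (180, 354), (190, 374), (201, 396), (202, 398), (211, 416), (212, 418), (218, 434),
  (223, 444), (230, 458), (236, 470)]),
  (2, [(134, 293), (140, 302), (168, 346), (196, 412), (198, 416), (199, 418), (201, 422), (202, 424), (203, 426),
  (224, 450), (231, 466), (232, 468)]),
  (3, [(134, 281), (146, 302), (177, 374), (180, 380), (182, 384), (183, 386), (215, 440), (216, 442), (217, 444),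
  (218, 446), (231, 464), (233, 468)]),
  (4, [(134, 259), (155, 302), (177, 346), (196, 380), (198, 384), (199, 386), (215, 422), (216, 424), (217, 426),
  (224, 446), (231, 460), (235, 468)]),
  (1, [(134, 251), (158, 302), (180, 346), (196, 375), (201, 384), (202, 386), (215, 417), (216, 419), (218, 426),
  (224, 445), (231, 459), (236, 468)]),
  (3, [(140, 269), (151, 292), (187, 354), (190, 360), (192, 364), (193, 366), (220, 430), (221, 432), (222, 434),
  (223, 436), (232, 462), (234, 466)]),
  (2, [(140, 259), (155, 292), (187, 347), (196, 360), (198, 364), (199, 366), (220, 423), (221, 425), (222, 427),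
  (224, 436), (232, 461), (235, 466)]),
  (2, [(140, 251), (158, 292), (190, 347), (196, 355), (201, 364), (202, 366), (220, 416), (221, 418), (223, 427),
  (224, 435), (232, 458), (236, 466)]),
  (2, [(146, 269), (151, 280), (173, 336), (206, 392), (208, 396), (209, 398), (211, 402), (212, 404), (213, 406),
  (225, 448), (233, 462), (234, 464)]),
  (1, [(146, 259), (155, 280), (177, 336), (206, 381), (208, 385), (209, 387), (215, 402), (216, 404), (217, 406),
  (225, 447), (233, 461), (235, 464)]),
  (1, [(146, 251), (158, 280), (180, 336), (206, 374), (211, 385), (212, 387), (215, 397), (216, 399), (218, 406),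
  (225, 444), (233, 458), (236, 464)]),
  (1, [(151, 259), (155, 268), (187, 336), (206, 360), (208, 364), (209, 366), (220, 402), (221, 404), (222, 406),
  (225, 436), (234, 461), (235, 463)]),
  (2, [(151, 251), (158, 268), (190, 336), (206, 355), (211, 364), (212, 366), (220, 397), (221, 399), (223, 406),
  (225, 435), (234, 458), (236, 463)])]

/-- the exponents of the element of the torus -/
def eR3 : List ℤ := [0, 1, 0, 2, 3, 0, 0]

/-- the compiled element of the torus -/
def dR3 : List (ℕ × ℕ) := [(120, 1), (122, 1), (125, 2), (129, 2), (134, 2), (140, 3), (146, 2), (151, 3), (155, 3), (158, 3), (160, 1),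
  (161, 1), (168, 3), (173, 3), (177, 3), (180, 3), (182, 1), (183, 1), (187, 2), (190, 2), (192, 4), (193, 4),
  (196, 2), (198, 4), (199, 4), (201, 4), (202, 4), (203, 3), (206, 2), (208, 4), (209, 4), (211, 4), (212, 4),
  (213, 3), (215, 4), (216, 4), (217, 3), (218, 3), (220, 1), (221, 1), (222, 2), (223, 2), (224, 2), (225, 2),
  (227, 1), (228, 1), (229, 2), (230, 2), (231, 2), (232, 3), (233, 2), (234, 3), (235, 3), (236, 3), (237, 1),
  (238, 1)]

theorem okwR3 : okw wR3 cR3 = true := by decide +kernel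

theorem oktR3 : okt eR3 dR3 = true := by decide +kernel

theorem actR3 : Nat.beq (cw cR3 (upg ft u0 dR3)) u0 = true ∧
    Nat.beq (cw cR3 (upg ft u1 dR3)) u1 = true ∧
    Nat.beq (cw cR3 (upg ft u2 dR3)) u2 = true ∧
    Nat.beq (cw cR3 (upg ft u3 dR3)) u4 = true ∧
    Nat.beq (cw cR3 (upg ft u4 dR3)) u5 = true ∧
    Nat.beq (cw cR3 (upg ft u5 dR3)) u3 = true ∧
    Nat.beq (cw cR3 (upg ft u6 dR3)) u6 = true ∧
    Nat.beq (cw cR3 (upg ft u7 dR3)) u7 = true := by
  refine ⟨?_, ?_, ?_, ?_, ?_, ?_, ?_, ?_⟩ <;> decide +kernel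

/-- the element -/
noncomputable def gR3 (F : Type u) [Field F] [CharP F 5] : Gh F := gw F wR3 * tor F eR3

theorem gR3_act [CharP F 5] (j : Fin 8) : V F (gR3 F) (uv F j) = uv F ((Equiv.swap (3 : Fin 8) 4 * Equiv.swap (4 : Fin 8) 5 : Equiv.Perm (Fin 8)) j) := by
  have h : ∀ j : Fin 8, (Equiv.swap (3 : Fin 8) 4 * Equiv.swap (4 : Fin 8) 5 : Equiv.Perm (Fin 8)) j = ![0, 1, 2, 4, 5, 3, 6, 7] j := by decide
  rw [h]
  obtain ⟨h0, h1, h2, h3, h4, h5, h6, h7⟩ := actR3
  fin_cases j
  · exact V_wt okwR3 oktR3 h0
  · exact V_wt okwR3 oktR3 h1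
  · exact V_wt okwR3 oktR3 h2
  · exact V_wt okwR3 oktR3 h3
  · exact V_wt okwR3 oktR3 h4
  · exact V_wt okwR3 oktR3 h5
  · exact V_wt okwR3 oktR3 h6
  · exact V_wt okwR3 oktR3 h7

end Cfsg.Agent.R2.PX.C
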