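import Cfsg.Agent.R2.PX.C.StdA

/-!
# Pattern X, Part C: the standard configuration, the three-cycle (4 5 6) (helper3)
-/

set_option autoImplicit false
set_option maxRecDepth 100000

namespace Cfsg.Agent.R2.PX.C

open Cfsg Cfsg.Lie Matrix
open Cfsg.Agent.R2.T1 Cfsg.Agent.R2.PX
open Cfsg.Agent.H943.E7V.Block (D1 rho)

universe u
variable {F : Type u} [Field F]

/-- the word -/
def wR4 : List (ℕ × ℕ) := [(41, 1), (55, 3), (51, 3), (70, 1), (74, 1), (84, 3)]

/-- the compiled word -/
def cR4 : List (ℕ × List (ℕ × ℕ)) := [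
  (1, [(125, 303), (134, 316), (168, 380), (177, 413), (182, 422), (183, 424), (198, 441), (199, 443), (203, 446),
  (217, 451), (229, 468), (231, 473)]),
  (3, [(125, 269), (151, 316), (173, 360), (187, 393), (192, 402), (193, 404), (208, 431), (209, 433), (213, 436),
  (222, 449), (229, 463), (234, 472)]),
  (3, [(129, 281), (146, 310), (173, 375), (180, 392), (182, 396), (183, 398), (211, 441), (212, 443), (213, 445),
  (218, 448), (230, 465), (233, 470)]),
  (1, [(134, 251), (158, 302), (180, 346), (196, 375), (201, 384), (202, 386), (215, 417), (216, 419), (218, 426),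
  (224, 445), (231, 459), (236, 468)]),
  (1, [(140, 259), (155, 292), (187, 347), (196, 360), (198, 364), (199, 366), (220, 423), (221, 425), (222, 427),
  (224, 436), (232, 461), (235, 466)]),
  (3, [(151, 251), (158, 268), (190, 336), (206, 355), (211, 364), (212, 366), (220, 397), (221, 399), (223, 406),
  (225, 435), (234, 458), (236, 463)])]

/-- the exponents of the element of the torus -/
def eR4 : List ℤ := [0, 1, 2, 3, 2, 0, 0]

/-- the compiled element of the torus -/
def dR4 : List (ℕ × ℕ) := [(120, 1), (122, 1), (125, 4), (129, 3), (134, 1), (140, 2), (146, 3), (151, 1), (155, 2), (158, 4), (160, 1),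
  (161, 1), (168, 3), (173, 4), (177, 3), (180, 1), (182, 4), (183, 4), (187, 1), (190, 2), (192, 3), (193, 3),
  (196, 4), (198, 1), (199, 1), (201, 2), (202, 2), (203, 3), (206, 2), (208, 3), (209, 3), (211, 1), (212, 1),
  (213, 4), (215, 2), (216, 2), (217, 3), (218, 1), (220, 4), (221, 4), (222, 1), (223, 2), (224, 4), (225, 2),
  (227, 1), (228, 1), (229, 4), (230, 3), (231, 1), (232, 2), (233, 3), (234, 1), (235, 2), (236, 4), (237, 1),
  (238, 1)]

theorem okwR4 : okw wR4 cR4 = true := by decide +kernel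

theorem oktR4 : okt eR4 dR4 = true := by decide +kernel

theorem actR4 : Nat.beq (cw cR4 (upg ft u0 dR4)) u0 = true ∧
    Nat.beq (cw cR4 (upg ft u1 dR4)) u1 = true ∧
    Nat.beq (cw cR4 (upg ft u2 dR4)) u2 = true ∧
    Nat.beq (cw cR4 (upg ft u3 dR4)) u3 = true ∧
    Nat.beq (cw cR4 (upg ft u4 dR4)) u5 = true ∧
    Nat.beq (cw cR4 (upg ft u5 dR4)) u6 = true ∧
    Nat.beq (cw cR4 (upg ft u6 dR4)) u4 = true ∧
    Nat.beq (cw cR4 (upg ft u7 dR4)) u7 = true := by
  refine ⟨?_, ?_, ?_, ?_, ?_, ?_, ?_, ?_⟩ <;> decide +kernel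

/-- the element -/
noncomputable def gR4 (F : Type u) [Field F] [CharP F 5] : Gh F := gw F wR4 * tor F eR4

theorem gR4_act [CharP F 5] (j : Fin 8) : V F (gR4 F) (uv F j) = uv F ((Equiv.swap (4 : Fin 8) 5 * Equiv.swap (5 : Fin 8) 6 : Equiv.Perm (Fin 8)) j) := by
  have h : ∀ j : Fin 8, (Equiv.swap (4 : Fin 8) 5 * Equiv.swap (5 : Fin 8) 6 : Equiv.Perm (Fin 8)) j = ![0, 1, 2, 3, 5, 6, 4, 7] j := by decide
  rw [h]
  obtain ⟨h0, h1, h2, h3, h4, h5, h6, h7⟩ := actR4
  fin_cases j
  · exact V_wt okwR4 oktR4 h0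
  · exact V_wt okwR4 oktR4 h1
  · exact V_wt okwR4 oktR4 h2
  · exact V_wt okwR4 oktR4 h3
  · exact V_wt okwR4 oktR4 h4
  · exact V_wt okwR4 oktR4 h5
  · exact V_wt okwR4 oktR4 h6
  · exact V_wt okwR4 oktR4 h7

end Cfsg.Agent.R2.PX.C
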