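import Cfsg.Agent.R2.PX.C.StdA

/-!
# Pattern X, Part C: the standard configuration, the three-cycle (5 6 7) (helper3)
-/

set_option autoImplicit false
set_option maxRecDepth 100000

namespace Cfsg.Agent.R2.PX.C

open Cfsg Cfsg.Lie Matrix
open Cfsg.Agent.R2.T1 Cfsg.Agent.R2.PX
open Cfsg.Agent.H943.E7V.Block (D1 rho)

universe u
variable {F : Type u} [Field F]

/-- the word -/
def wR5 : List (ℕ × ℕ) := [(1, 4), (2, 4), (4, 3), (5, 4), (7, 2), (8, 2), (9, 1), (11, 2), (12, 3), (14, 2), (17, 4), (18, 3), (20, 3),
  (23, 4), (27, 2), (34, 1), (36, 3), (43, 4), (48, 1), (53, 2), (57, 4), (60, 1), (66, 4), (41, 1), (50, 1),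
  (55, 2), (59, 1), (46, 4), (56, 1), (66, 2), (69, 4), (70, 1), (73, 3), (74, 1), (75, 4), (78, 1), (79, 1),
  (80, 2), (83, 1), (84, 3)]

/-- the compiled word -/
def cR5 : List (ℕ × List (ℕ × ℕ)) := [
  (4, [(120, 441), (122, 442), (125, 445), (129, 446), (134, 449), (146, 450), (168, 464), (173, 468), (177, 470),
  (180, 472), (182, 474), (183, 476)]),
  (4, [(120, 431), (122, 432), (125, 435), (129, 436), (140, 449), (151, 451), (168, 462), (173, 466), (187, 471),
  (190, 473), (192, 475), (193, 477)]),
  (3, [(120, 417), (122, 418), (129, 427), (134, 434), (140, 445), (158, 451), (168, 458), (180, 466), (190, 468),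
  (196, 470), (201, 475), (202, 477)]),
  (4, [(120, 413), (125, 418), (129, 425), (134, 432), (140, 443), (160, 450), (168, 456), (182, 467), (192, 469),
  (198, 471), (201, 473), (203, 476)]),
  (2, [(120, 403), (122, 404), (125, 407), (146, 436), (151, 446), (155, 448), (173, 461), (177, 463), (187, 465),
  (206, 473), (208, 475), (209, 477)]),
  (2, [(120, 397), (122, 398), (129, 407), (146, 434), (151, 444), (158, 449), (173, 459), (180, 462), (190, 464),
  (206, 471), (211, 474), (212, 476)]),
  (1, [(120, 393), (125, 398), (129, 405), (146, 432), (151, 442), (160, 448), (173, 457), (182, 463), (192, 465),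
  (208, 470), (211, 472), (213, 477)]),
  (2, [(120, 385), (122, 386), (134, 407), (146, 426), (155, 445), (158, 447), (177, 458), (180, 460), (196, 465),
  (206, 469), (215, 475), (216, 477)]),
  (3, [(120, 381), (125, 386), (134, 405), (146, 424), (155, 443), (160, 446), (177, 456), (182, 461), (198, 464),
  (208, 468), (215, 473), (217, 476)]),
  (2, [(120, 375), (129, 386), (134, 399), (146, 418), (158, 442), (160, 444), (180, 457), (182, 459), (201, 465),
  (211, 469), (215, 471), (218, 477)]),
  (4, [(120, 365), (122, 366), (140, 407), (151, 427), (155, 435), (158, 437), (187, 459), (190, 461), (196, 463),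
  (206, 467), (220, 474), (221, 476)]),
  (3, [(120, 361), (125, 366), (140, 405), (151, 425), (155, 433), (160, 436), (187, 457), (192, 460), (198, 462),
  (208, 466), (220, 472), (222, 477)]),
  (3, [(120, 355), (129, 366), (140, 399), (151, 419), (158, 432), (160, 434), (190, 456), (192, 458), (201, 463),
  (211, 467), (220, 470), (223, 476)]),
  (4, [(120, 347), (134, 366), (140, 387), (155, 418), (158, 424), (160, 426), (196, 457), (198, 459), (201, 461),
  (215, 466), (220, 468), (224, 477)]),
  (2, [(120, 337), (146, 366), (151, 386), (155, 398), (158, 404), (160, 406), (206, 456), (208, 458), (211, 460),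
  (215, 462), (220, 464), (225, 476)]),
  (1, [(120, 317), (125, 322), (168, 404), (173, 424), (177, 432), (182, 437), (187, 442), (192, 447), (198, 449),
  (208, 451), (227, 472), (229, 477)]),
  (3, [(120, 311), (129, 322), (168, 398), (173, 418), (180, 433), (182, 435), (190, 443), (192, 445), (201, 448),
  (211, 450), (227, 470), (230, 476)]),
  (4, [(120, 293), (140, 322), (168, 366), (187, 418), (190, 424), (192, 426), (196, 432), (198, 434), (201, 436),
  (220, 450), (227, 466), (232, 476)]),
  (1, [(120, 281), (146, 322), (173, 387), (177, 399), (180, 405), (182, 407), (206, 443), (208, 445), (211, 447),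
  (215, 449), (227, 464), (233, 476)]),
  (2, [(120, 269), (151, 322), (173, 366), (187, 399), (190, 405), (192, 407), (206, 432), (208, 434), (211, 436),
  (220, 449), (227, 463), (234, 476)]),
  (4, [(120, 259), (155, 322), (177, 366), (187, 386), (196, 405), (198, 407), (206, 425), (208, 427), (215, 436),
  (220, 446), (227, 460), (235, 476)]),
  (1, [(120, 251), (158, 322), (180, 366), (190, 386), (196, 398), (201, 407), (206, 418), (211, 427), (215, 435),
  (220, 445), (227, 459), (236, 476)]),
  (4, [(129, 251), (158, 310), (180, 354), (190, 374), (201, 396), (202, 398), (211, 416), (212, 418), (218, 434),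
  (223, 444), (230, 458), (236, 470)]),
  (1, [(125, 303), (134, 316), (168, 380), (177, 413), (182, 422), (183, 424), (198, 441), (199, 443), (203, 446),
  (217, 451), (229, 468), (231, 473)]),
  (1, [(125, 281), (146, 316), (173, 381), (177, 393), (182, 402), (183, 404), (208, 440), (209, 442), (213, 447),
  (217, 449), (229, 464), (233, 472)]),
  (2, [(125, 269), (151, 316), (173, 360), (187, 393), (192, 402), (193, 404), (208, 431), (209, 433), (213, 436),
  (222, 449), (229, 463), (234, 472)]),
  (1, [(125, 259), (155, 316), (177, 360), (187, 380), (198, 402), (199, 404), (208, 422), (209, 424), (217, 436),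
  (222, 446), (229, 460), (235, 472)]),
  (4, [(129, 293), (140, 310), (168, 354), (190, 413), (192, 417), (193, 419), (201, 430), (202, 432), (203, 434),
  (223, 451), (230, 467), (232, 470)]),
  (1, [(129, 269), (151, 310), (173, 354), (190, 392), (192, 396), (193, 398), (211, 430), (212, 432), (213, 434),
  (223, 448), (230, 462), (234, 470)]),
  (2, [(129, 251), (158, 310), (180, 354), (190, 374), (201, 396), (202, 398), (211, 416), (212, 418), (218, 434),
  (223, 444), (230, 458), (236, 470)]),
  (4, [(134, 259), (155, 302), (177, 346), (196, 380), (198, 384), (199, 386), (215, 422), (216, 424), (217, 426),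
  (224, 446), (231, 460), (235, 468)]),
  (1, [(134, 251), (158, 302), (180, 346), (196, 375), (201, 384), (202, 386), (215, 417), (216, 419), (218, 426),
  (224, 445), (231, 459), (236, 468)]),
  (3, [(140, 269), (151, 292), (187, 354), (190, 360), (192, 364), (193, 366), (220, 430), (221, 432), (222, 434),
  (223, 436), (232, 462), (234, 466)]),
  (1, [(140, 259), (155, 292), (187, 347), (196, 360), (198, 364), (199, 366), (220, 423), (221, 425), (222, 427),
  (224, 436), (232, 461), (235, 466)]),
  (4, [(140, 251), (158, 292), (190, 347), (196, 355), (201, 364), (202, 366), (220, 416), (221, 418), (223, 427),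
  (224, 435), (232, 458), (236, 466)]),
  (1, [(146, 269), (151, 280), (173, 336), (206, 392), (208, 396), (209, 398), (211, 402), (212, 404), (213, 406),
  (225, 448), (233, 462), (234, 464)]),
  (1, [(146, 259), (155, 280), (177, 336), (206, 381), (208, 385), (209, 387), (215, 402), (216, 404), (217, 406),
  (225, 447), (233, 461), (235, 464)]),
  (2, [(146, 251), (158, 280), (180, 336), (206, 374), (211, 385), (212, 387), (215, 397), (216, 399), (218, 406),
  (225, 444), (233, 458), (236, 464)]),
  (1, [(151, 259), (155, 268), (187, 336), (206, 360), (208, 364), (209, 366), (220, 402), (221, 404), (222, 406),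
  (225, 436), (234, 461), (235, 463)]),
  (3, [(151, 251), (158, 268), (190, 336), (206, 355), (211, 364), (212, 366), (220, 397), (221, 399), (223, 406),
  (225, 435), (234, 458), (236, 463)])]

/-- the exponents of the element of the torus -/
def eR5 : List ℤ := [0, 2, 1, 3, 2, 0, 0]

/-- the compiled element of the torus -/
def dR5 : List (ℕ × ℕ) := [(120, 1), (122, 1), (125, 4), (129, 3), (134, 1), (140, 3), (146, 2), (151, 1), (155, 2), (158, 4), (160, 1),
  (161, 1), (168, 4), (173, 3), (177, 1), (180, 2), (182, 3), (183, 3), (187, 3), (190, 1), (192, 4), (193, 4),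
  (196, 2), (198, 3), (199, 3), (201, 1), (202, 1), (203, 4), (206, 4), (208, 1), (209, 1), (211, 2), (212, 2),
  (213, 3), (215, 4), (216, 4), (217, 1), (218, 2), (220, 2), (221, 2), (222, 3), (223, 1), (224, 2), (225, 4),
  (227, 1), (228, 1), (229, 4), (230, 3), (231, 1), (232, 3), (233, 2), (234, 1), (235, 2), (236, 4), (237, 1),
  (238, 1)]

theorem okwR5 : okw wR5 cR5 = true := by decide +kernel

theorem oktR5 : okt eR5 dR5 = true := by decide +kernel

theorem actR5 : Nat.beq (cw cR5 (upg ft u0 dR5)) u0 = true ∧
    Nat.beq (cw cR5 (upg ft u1 dR5)) u1 = true ∧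
    Nat.beq (cw cR5 (upg ft u2 dR5)) u2 = true ∧
    Nat.beq (cw cR5 (upg ft u3 dR5)) u3 = true ∧
    Nat.beq (cw cR5 (upg ft u4 dR5)) u4 = true ∧
    Nat.beq (cw cR5 (upg ft u5 dR5)) u6 = true ∧
    Nat.beq (cw cR5 (upg ft u6 dR5)) u7 = true ∧
    Nat.beq (cw cR5 (upg ft u7 dR5)) u5 = true := by
  refine ⟨?_, ?_, ?_, ?_, ?_, ?_, ?_, ?_⟩ <;> decide +kernel

/-- the element -/
noncomputable def gR5 (F : Type u) [Field F] [CharP F 5] : Gh F := gw F wR5 * tor F eR5

theorem gR5_act [CharP F 5] (j : Fin 8) : V F (gR5 F) (uv F j) = uv F ((Equiv.swap (5 : Fin 8) 6 * Equiv.swap (6 : Fin 8) 7 : Equiv.Perm (Fin 8)) j) := by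
  have h : ∀ j : Fin 8, (Equiv.swap (5 : Fin 8) 6 * Equiv.swap (6 : Fin 8) 7 : Equiv.Perm (Fin 8)) j = ![0, 1, 2, 3, 4, 6, 7, 5] j := by decide
  rw [h]
  obtain ⟨h0, h1, h2, h3, h4, h5, h6, h7⟩ := actR5
  fin_cases j
  · exact V_wt okwR5 oktR5 h0
  · exact V_wt okwR5 oktR5 h1
  · exact V_wt okwR5 oktR5 h2
  · exact V_wt okwR5 oktR5 h3
  · exact V_wt okwR5 oktR5 h4
  · exact V_wt okwR5 oktR5 h5
  · exact V_wt okwR5 oktR5 h6
  · exact V_wt okwR5 oktR5 h7

end Cfsg.Agent.R2.PX.C
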