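import Cfsg.Agent.R2.PX.DdI
import Cfsg.Agent.R2.T1.Inf.Dia

/-!
# Pattern X, Part C: vectors as lists (helper3)

* `lv F L` : the vector of a list of 56 residues modulo 5 (in the order of `W56`); `pl R` : the list of a packed vector;
* `ax r t L` : the action of the root element `xs r t`; `V_ax`.
-/

set_option autoImplicit false
set_option maxRecDepth 100000

namespace Cfsg.Agent.R2.PX.C

open Cfsg Cfsg.Lie Matrix
open Cfsg.Agent.R2.T1 Cfsg.Agent.R2.PX
open Cfsg.Agent.ChevalleyStructure.Elts Cfsg.Agent.ChevalleyStructure.RootVec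
  Cfsg.Agent.ChevalleyStructure.RootVecTab
open Cfsg.Agent.H943.E7V.Block (D1 rho)

universe u
variable {F : Type u} [Field F]

/-- the packed table of positions -/
def PSN : ℕ := 0x37363534333231302f2e2d2c002b2a2928272600252423220021201f001e1d001c00001b1a1900181700160000151400130000120000001110000f00000e0000000d000000000c0000000000000b0a00090000080000000700000000060000000000050000000000040000000003000000020000010000

/-- the packed table of opposite weights and signs -/
def OPN : ℕ := 0xf100f500fb0103010d01190125012e0137013c0141014200000151015a01630168016d016e00000176017d0180018300000188018d018e0000019201950000019600000000019d01a001a3000001a701a8000001ab0000000001ae01b1000001b20000000001b500000000000001b901ba000001bd0000000001be00000000000001c1000000000000000001c200000000000000000000000001c701c8000001cb0000000001cc00000000000001cf000000000000000001d00000000000000000000001d20000000000000000000001d4000000000000000001d600000000000001d80000000001da000001dc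

/-- the position of a weight -/
def ps (s : ℕ) : ℕ := Nat.land (Nat.shiftRight PSN (8 * (s - 120))) 255

theorem chkPs : (W56.all fun s => Nat.blt (ps s) 56 && Nat.beq (W56.getD (ps s) 0) s) = true := by decide +kernel

theorem chkOPN : (W56.all fun s => Nat.beq (lk OPN (s - 120)) (code (some (st s)))) = true := by decide +kernel

theorem ps_lt (a : D1) : ps (nn a) < 56 := by
  have h := List.all_eq_true.1 chkPs (nn a) (nn_mem a)
  rw [Bool.and_eq_true, Nat.blt_eq] at h
  exact h.1

theorem W56_ps (a : D1) : W56.getD (ps (nn a)) 0 = nn a := by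
  have h := List.all_eq_true.1 chkPs (nn a) (nn_mem a)
  rw [Bool.and_eq_true] at h
  exact Nat.eq_of_beq_eq_true h.2

theorem len_W56 : W56.length = 56 := by decide +kernel

theorem nn_W56 {i : ℕ} (hi : i < 56) : ∃ a : D1, nn a = W56.getD i 0 := by
  have h : W56.getD i 0 ∈ W56 := by
    rw [List.getD_eq_getElem _ _ (by rw [len_W56]; exact hi)]
    exact List.getElem_mem _
  have h1 := W56_spec _ h
  exact ⟨⟨⟨_, h1.1⟩, h1.2⟩, rfl⟩

theorem chkPs2 : ((List.range 56).all fun i => Nat.beq (ps (W56.getD i 0)) i) = true := by decide +kernel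

theorem ps_W56 {i : ℕ} (hi : i < 56) : ps (W56.getD i 0) = i :=
  Nat.eq_of_beq_eq_true (List.all_eq_true.1 chkPs2 i (List.mem_range.2 hi))

variable (F)

/-- the vector of a list -/
def lv (L : List ℕ) : D1 → F := fun a => ((L.getD (ps (nn a)) 0 : ℕ) : F)

variable {F}

theorem lv_apply (L : List ℕ) (a : D1) : lv F L a = ((L.getD (ps (nn a)) 0 : ℕ) : F) := rfl

/-- the list of a function on the weights -/
def fl (f : ℕ → ℕ) : List ℕ := W56.map f

theorem lv_fl (f : ℕ → ℕ) (a : D1) : lv F (fl f) a = ((f (nn a) : ℕ) : F) := by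
  have h : (W56.map f).getD (ps (nn a)) 0 = f (W56.getD (ps (nn a)) 0) := by
    have h1 := ps_lt a
    rw [List.getD_eq_getElem _ _ (by rw [List.length_map, len_W56]; exact h1), List.getElem_map,
      List.getD_eq_getElem _ _ (by rw [len_W56]; exact h1)]
  rw [lv_apply, fl, h, W56_ps]

theorem len_fl (f : ℕ → ℕ) : (fl f).length = 56 := by rw [fl, List.length_map, len_W56]

/-- pointwise map with the weight -/
def zw (f : ℕ → ℕ → ℕ) (L : List ℕ) : List ℕ := List.zipWith f W56 L

theorem lv_zw (f : ℕ → ℕ → ℕ) {L : List ℕ} (hL : L.length = 56) (a : D1) :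
    lv F (zw f L) a = ((f (nn a) (L.getD (ps (nn a)) 0) : ℕ) : F) := by
  have h1 := ps_lt a
  have h2 : ps (nn a) < (List.zipWith f W56 L).length := by
    rw [List.length_zipWith, len_W56, hL]; exact h1
  rw [lv_apply, zw, List.getD_eq_getElem _ _ h2, List.getElem_zipWith]
  congr 2
  · have h3 := W56_ps a
    rw [List.getD_eq_getElem _ _ (by rw [len_W56]; exact h1)] at h3
    exact h3
  · rw [List.getD_eq_getElem _ _ (by rw [hL]; exact h1)]

theorem len_zw (f : ℕ → ℕ → ℕ) {L : List ℕ} (hL : L.length = 56) : (zw f L).length = 56 := by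
  rw [zw, List.length_zipWith, len_W56, hL]; rfl

/-- packed vectors: 4 bits for each weight -/
def pa (R s : ℕ) : ℕ := Nat.land (Nat.shiftRight R (4 * (s - 120))) 15

/-- the list of a packed vector -/
def pl (R : ℕ) : List ℕ := fl (pa R)

theorem len_pl (R : ℕ) : (pl R).length = 56 := len_fl _

theorem lv_pl (R : ℕ) (a : D1) : lv F (pl R) a = ((pa R (nn a) : ℕ) : F) := lv_fl _ a

/-! ### residues modulo 5 -/

theorem castmod [CharP F 5] (n : ℕ) : ((n % 5 : ℕ) : F) = (n : F) := by
  have h5 : (5 : F) = 0 := five_zero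
  conv_rhs => rw [← Nat.div_add_mod n 5]
  push_cast
  rw [h5]; ring

/-- the sign of a code as a residue -/
def sn (k : ℕ) : ℕ := bif Nat.beq (k % 2) 0 then 1 else 4

theorem sn_cast [CharP F 5] (k : ℕ) : ((sn k : ℕ) : F) = se F k := by
  have h5 : (5 : F) = 0 := five_zero
  unfold sn se
  rcases Nat.mod_two_eq_zero_or_one k with h | h
  · rw [h, show Nat.beq 0 0 = true from rfl, cond_true, if_pos rfl]; simp
  · rw [h, show Nat.beq 1 0 = false from rfl, cond_false, if_neg (by norm_num)]
    push_cast
    linear_combination h5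

/-- the coordinate of `N_r w` at `a`, from the code of `-r` at `a` -/
theorem NM_code {r : ℕ} (hr : r < 126) (w : D1 → F) (a : D1) :
    (lk (PT.getD (125 - r) 0) (nn a - 120) = 0 ∧ (NM F r *ᵥ w) a = 0) ∨
    (lk (PT.getD (125 - r) 0) (nn a - 120) ≠ 0 ∧ ∃ b : D1, lk (PT.getD (125 - r) 0) (nn a - 120) / 2 = nn b ∧
      (NM F r *ᵥ w) a = se F (lk (PT.getD (125 - r) 0) (nn a - 120)) * w b) := by
  have hr' : 125 - r < 126 := by omega
  rcases mv_spec hr' a with h | ⟨b, c, h, h1, -, h2⟩
  · left
    have h0 := (mv_none_iff hr' a).1 h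
    refine ⟨h0, ?_⟩
    by_contra hne
    obtain ⟨b, c, h3, -⟩ := NM_mulVec_ne hne
    rcases mv_spec hr b with h4 | ⟨a', c', h4, -, -, h5⟩
    · rw [h4] at h3; simp at h3
    · rw [h3, Option.some.injEq, Prod.mk.injEq] at h4
      rw [← h4.1, h] at h5
      simp at h5
  · right
    have h0 : lk (PT.getD (125 - r) 0) (nn a - 120) ≠ 0 := fun h' => by
      have := (mv_none_iff hr' a).2 h'
      rw [h] at this; simp at this
    refine ⟨h0, b, ?_, ?_⟩
    · rw [lk_PT hr', h]
      unfold code
      dsimp only
      cases (c == 1)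
      · show (2 * nn b + 1) / 2 = _; omega
      · show (2 * nn b + 0) / 2 = _; omega
    · rw [sub_sub_r hr] at h2
      rw [NM_mulVec hr h2, lk_PT hr', h]
      congr 1
      rcases sq_cases h1 with rfl | rfl
      · show ((1 : ℤ) : F) = se F (2 * nn b + 0)
        unfold se
        rw [if_pos (by omega)]; simp
      · show ((-1 : ℤ) : F) = se F (2 * nn b + 1)
        unfold se
        rw [if_neg (by omega)]; simp

/-! ### the root elements -/

/-- the action of the root element -/
def ax (r t : ℕ) (L : List ℕ) : List ℕ :=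
  let R := PT.getD (125 - r) 0
  zw (fun u x => let k := lk R (u - 120)
    bif Nat.beq k 0 then x else (x + t * (sn k * L.getD (ps (k / 2)) 0)) % 5) L

theorem len_ax (r t : ℕ) {L : List ℕ} (hL : L.length = 56) : (ax r t L).length = 56 := len_zw _ hL

theorem V_ax [CharP F 5] {r : ℕ} (hr : r < 126) (t : ℕ) {L : List ℕ} (hL : L.length = 56) :
    V F (xs F r (t : F)) (lv F L) = lv F (ax r t L) := by
  funext a
  rw [V_xs hr, Pi.add_apply, Pi.smul_apply, smul_eq_mul]
  show _ = lv F (zw _ L) a
  rw [lv_zw _ hL]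
  dsimp only
  rcases NM_code hr (lv F L) a with ⟨h1, h2⟩ | ⟨h1, b, h2, h3⟩
  · rw [h1, h2, show Nat.beq 0 0 = true from rfl, cond_true, mul_zero, add_zero]
    rfl
  · rw [beq_zero_false h1, cond_false, h3, castmod, h2]
    push_cast
    rw [sn_cast, lv_apply, lv_apply]

/-- the action of a word (the first letter acts last) -/
def aw (w : List (ℕ × ℕ)) (L : List ℕ) : List ℕ := w.foldr (fun x L => ax x.1 x.2 L) L

/-- the element of a word -/
def gw (F : Type u) [Field F] (w : List (ℕ × ℕ)) : Gh F := (w.map fun x => xs F x.1 ((x.2 : ℕ) : F)).prod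

theorem len_aw (w : List (ℕ × ℕ)) {L : List ℕ} (hL : L.length = 56) : (aw w L).length = 56 := by
  induction w with
  | nil => exact hL
  | cons x w ih => exact len_ax _ _ ih

theorem V_aw [CharP F 5] {w : List (ℕ × ℕ)} (hw : ∀ x ∈ w, x.1 < 126) {L : List ℕ} (hL : L.length = 56) :
    V F (gw F w) (lv F L) = lv F (aw w L) := by
  induction w with
  | nil =>
    show V F (List.prod []) _ = _
    rw [List.prod_nil, V_one]
    rfl
  | cons x w ih =>
    show V F (List.prod (_ :: _)) _ = _
    rw [List.prod_cons, V_mul]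
    have h1 := ih fun y hy => hw y (List.mem_cons_of_mem _ hy)
    have h2 : V F (w.map fun x => xs F x.1 ((x.2 : ℕ) : F)).prod (lv F L) = lv F (aw w L) := h1
    rw [h2, V_ax (hw x List.mem_cons_self) _ (len_aw w hL)]
    rfl

end Cfsg.Agent.R2.PX.C
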